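import Cfsg.Agent.Lib.L34Fusion.Code
import Cfsg.Agent.Lib.L34Mult.Cocycle

/-!
The codes of the field with four elements and of the coordinates.
-/

set_option autoImplicit false

namespace Cfsg.Agent.L34Fusion

open Cfsg.Agent.L34Mult

universe u

variable {F : Type u} [Field F] (W : Frame F)

/-- The element of a code. -/
def fe (n : ℕ) : F := match n with
  | 0 => 0
  | 1 => 1
  | 2 => W.w
  | _ => W.w + 1

theorem fe_zero : fe W 0 = 0 := rfl

theorem fe_one : fe W 1 = 1 := rfl

theorem exists_fe (x : F) : ∃ n, n < 4 ∧ fe W n = x := by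
  rcases W.cases x with rfl | rfl | rfl | rfl
  · exact ⟨0, by norm_num, rfl⟩
  · exact ⟨1, by norm_num, rfl⟩
  · exact ⟨2, by norm_num, rfl⟩
  · exact ⟨3, by norm_num, rfl⟩

theorem fe_inj {m n : ℕ} (hm : m < 4) (hn : n < 4) (h : fe W m = fe W n) : m = n := by
  have h1 : W.w + 1 ≠ 0 := fun h => W.ne_one (by linear_combination h - W.two)
  have h2 : W.w + 1 ≠ 1 := fun h => W.ne_zero (by linear_combination h)
  have h3 : W.w + 1 ≠ W.w := fun h => one_ne_zero (α := F) (by linear_combination h)
  interval_cases m <;> interval_cases n <;>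
    simp [fe, W.ne_zero, W.ne_one, Ne.symm W.ne_zero, Ne.symm W.ne_one, h1, h2, h3, Ne.symm h1, Ne.symm h2,
      Ne.symm h3] at h ⊢

theorem xor_lt {a b : ℕ} (ha : a < 4) (hb : b < 4) : Nat.xor a b < 4 :=
  Nat.xor_lt_two_pow (n := 2) ha hb

theorem land_three (n : ℕ) : Nat.land n 3 = n % 4 := Nat.and_two_pow_sub_one_eq_mod n 2

theorem land_mask (n : ℕ) : Nat.land n 255 = n % 256 := Nat.and_two_pow_sub_one_eq_mod n 8

theorem shiftRight_div (n k : ℕ) : Nat.shiftRight n k = n / 2 ^ k := Nat.shiftRight_eq_div_pow n k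

theorem fmul_lt (a b : ℕ) : fmul a b < 4 := by rw [fmul, land_three]; omega

theorem fsq_lt (a : ℕ) : fsq a < 4 := by rw [fsq, land_three]; omega

theorem cA_lt (n : ℕ) : cA n < 4 := by rw [cA, land_three]; omega

theorem cB_lt (n : ℕ) : cB n < 4 := by rw [cB, land_three]; omega

theorem cE_lt (n : ℕ) : cE n < 4 := by rw [cE, land_three]; omega

theorem fe_xor {a b : ℕ} (ha : a < 4) (hb : b < 4) : fe W (Nat.xor a b) = fe W a + fe W b := by
  interval_cases a <;> interval_cases b <;>
    simp [fe, Nat.xor, Nat.bitwise, W.add_self] <;>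
    first
      | linear_combination (-1 : F) * W.two
      | linear_combination -W.w * W.two
      | linear_combination (0 : F) * W.two

theorem fe_fmul {a b : ℕ} (ha : a < 4) (hb : b < 4) : fe W (fmul a b) = fe W a * fe W b := by
  interval_cases a <;> interval_cases b <;> simp [fe, fmul, land_three, shiftRight_div] <;>
    first
      | linear_combination -W.sq
      | linear_combination -W.sq - W.w * W.two
      | linear_combination -W.sq - (W.w + 1) * W.two

theorem fe_fsq {a : ℕ} (ha : a < 4) : fe W (fsq a) = fe W a * fe W a := by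
  interval_cases a <;> simp [fe, fsq, land_three, shiftRight_div] <;>
    first
      | linear_combination -W.sq
      | linear_combination -W.sq - (W.w + 1) * W.two

theorem teich_fe {a : ℕ} (ha : a < 4) :
    W.teich (fe W a) = (((Nat.land (Nat.shiftRight 0xc4 (Nat.mul 2 a)) 3 : ℕ) : ZMod 4),
      ((Nat.land (Nat.shiftRight 0xd0 (Nat.mul 2 a)) 3 : ℕ) : ZMod 4)) := by
  interval_cases a
  · exact W.teich_zero
  · exact W.teich_one
  · exact W.teich_w
  · exact W.teich_w_one

theorem enc_eq (z a b e i : ℕ) : enc z a b e i = z % 4 + (4 * a + (16 * b + (64 * e + 256 * i))) := rfl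

theorem enc_lt {z a b e i : ℕ} (ha : a < 4) (hb : b < 4) (he : e < 4) (hi : i < 2) : enc z a b e i < 512 := by
  rw [enc_eq]; omega

theorem enc_coords {z a b e i : ℕ} (ha : a < 4) (hb : b < 4) (he : e < 4) :
    cA (enc z a b e i) = a ∧ cB (enc z a b e i) = b ∧ cE (enc z a b e i) = e ∧
      Nat.land (enc z a b e i) 3 = z % 4 ∧ Nat.shiftRight (enc z a b e i) 8 = i ∧
      Nat.land (enc z a b e i) 255 = enc z a b e 0 := by
  simp only [cA, cB, cE, land_three, land_mask, shiftRight_div, enc_eq]
  norm_num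
  omega

theorem land_255_lt (n : ℕ) : Nat.land n 255 < 256 := by rw [land_mask]; omega

end Cfsg.Agent.L34Fusion
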