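/-!
Codes for the Sylow 2-subgroup of order 512 of a group `C` with a perfect normal subgroup of index two which is an
extension of a cyclic group of order four by `L₃(4)`, and the finite checks about its involutions.

An element is coded by `z + 4a + 16b + 64e + 256i`.
-/

set_option autoImplicit false
set_option maxRecDepth 100000

namespace Cfsg.Agent.L34Fusion

/-- Multiplication in the field with four elements, elements coded as `0, 1, w, w + 1`. -/
def fmul (x y : Nat) : Nat :=
  Nat.land (Nat.shiftRight 0x9c78e400 (Nat.mul 2 (Nat.add (Nat.mul 4 x) y))) 3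

/-- Squaring. -/
def fsq (x : Nat) : Nat := Nat.land (Nat.shiftRight 0xb4 (Nat.mul 2 x)) 3

/-- A variant: the automorphism of the outer element, the map of the coefficients to the centre, the square of the
outer element and the sign of its action on the centre. -/
structure Var where
  r : Nat
  a : Nat
  b : Nat
  k : Nat
  eps : Nat

/-- The central exponent of the lift of a field element. -/
def lt (v : Var) (x : Nat) : Nat :=
  Nat.mod (Nat.add (Nat.mul v.a (Nat.land (Nat.shiftRight 0xc4 (Nat.mul 2 x)) 3))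
    (Nat.mul v.b (Nat.land (Nat.shiftRight 0xd0 (Nat.mul 2 x)) 3))) 4

/-- The cocycle, mapped to the centre. -/
def valZ (v : Var) (a b e x y : Nat) : Nat :=
  let q := Nat.xor e (fmul a b)
  Nat.add (lt v (fmul (fsq x) b))
    (Nat.mul 2 (lt v (Nat.xor (fmul x q) (fmul (fsq y) (fsq (Nat.xor q (fmul x b)))))))

/-- The first field coordinate of a code. -/
def cA (n : Nat) : Nat := Nat.land (Nat.shiftRight n 2) 3

/-- The second field coordinate of a code. -/
def cB (n : Nat) : Nat := Nat.land (Nat.shiftRight n 4) 3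

/-- The third field coordinate of a code. -/
def cE (n : Nat) : Nat := Nat.land (Nat.shiftRight n 6) 3

/-- A code from coordinates, the central one read modulo four. -/
def enc (z a b e i : Nat) : Nat :=
  Nat.add (Nat.mod z 4) (Nat.add (Nat.mul 4 a) (Nat.add (Nat.mul 16 b) (Nat.add (Nat.mul 64 e) (Nat.mul 256 i))))

/-- The action of the outer element on the inner part of a code. -/
def act (v : Var) (n : Nat) : Nat :=
  let z := Nat.mul v.eps (Nat.land n 3)
  let a := cA n
  let b := cB n
  let e := cE n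
  bif Nat.beq v.r 0 then enc z (fsq a) (fsq b) (fsq e) 0
  else bif Nat.beq v.r 1 then enc (Nat.add z (lt v (fmul a (fsq b)))) b a (Nat.xor e (fmul a b)) 0
  else enc (Nat.add z (lt v (fmul (fsq a) b))) (fsq b) (fsq a) (Nat.xor (fsq e) (fmul (fsq a) (fsq b))) 0

/-- The product of inner codes, with a further central exponent and outer exponent. -/
def mulI (v : Var) (p q k i : Nat) : Nat :=
  enc (Nat.add (Nat.add (Nat.land p 3) (Nat.land q 3)) (Nat.add (valZ v (cA p) (cB p) (cE p) (cA q) (cB q)) k))
    (Nat.xor (cA p) (cA q)) (Nat.xor (cB p) (cB q))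
    (Nat.xor (Nat.xor (cE p) (cE q)) (fmul (cA p) (cB q))) i

/-- The product. -/
def mulN (v : Var) (p q : Nat) : Nat :=
  bif Nat.beq (Nat.shiftRight p 8) 0 then mulI v p (Nat.land q 255) 0 (Nat.shiftRight q 8)
  else bif Nat.beq (Nat.shiftRight q 8) 0 then mulI v (Nat.land p 255) (act v q) 0 1
  else mulI v (Nat.land p 255) (act v (Nat.land q 255)) v.k 0

/-- Commuting codes. -/
def commN (v : Var) (p q : Nat) : Bool := Nat.beq (mulN v p q) (mulN v q p)

/-- The inner involutions other than the central one. -/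
def inInv (v : Var) : List Nat :=
  (List.range 256).filter fun u => !(Nat.beq u 0) && !(Nat.beq u 2) && Nat.beq (mulN v u u) 0

/-- The outer involutions. -/
def outInv (v : Var) : List Nat :=
  ((List.range 256).map (Nat.add 256)).filter fun y => Nat.beq (mulN v y y) 0

/-- The conjugating elements used. -/
def wits : List Nat :=
  [128, 129, 32, 33, 160, 161, 8, 9, 136, 137, 20, 21, 40, 41, 60, 61]

/-- Every outer involution commutes with an inner one, and times such a one is conjugate to itself. -/
def checkFus (v : Var) : Bool :=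
  (outInv v).all fun y =>
    (inInv v).any (fun u => commN v u y) &&
      (inInv v).all (fun u => !(commN v u y) || wits.any (fun w => Nat.beq (mulN v w y) (mulN v (mulN v u y) w)))

/-- The centraliser of the inner involution `64`. -/
def centList (v : Var) : List Nat := (List.range 512).filter fun w => commN v w 64

/-- The number of pairs of a square root in the centraliser and an element commuting with it. -/
def weight (v : Var) (A : List Nat) (u : Nat) : Nat :=
  ((A.filter fun w => Nat.beq (mulN v w w) u).map fun w => (A.filter fun q => commN v w q).length).sum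

/-- The centraliser has order 256, and the two involutions differ in it. -/
def checkInv (v : Var) : Bool :=
  let A := centList v
  Nat.beq A.length 256 && !(Nat.beq (weight v A 2) (weight v A 64))

/-- The variants, the coefficient map up to sign. -/
def variants : List Var :=
  [⟨0, 0, 1, 0, 3⟩, ⟨0, 0, 1, 2, 3⟩, ⟨0, 2, 1, 0, 1⟩, ⟨0, 2, 1, 1, 1⟩, ⟨0, 2, 1, 2, 1⟩, ⟨0, 2, 1, 3, 1⟩,
   ⟨1, 0, 1, 0, 1⟩, ⟨1, 0, 1, 1, 1⟩, ⟨1, 0, 1, 2, 1⟩, ⟨1, 0, 1, 3, 1⟩, ⟨1, 2, 1, 0, 3⟩, ⟨1, 2, 1, 2, 3⟩,
   ⟨2, 0, 1, 0, 3⟩, ⟨2, 0, 1, 2, 3⟩, ⟨2, 1, 0, 0, 3⟩, ⟨2, 1, 0, 2, 3⟩, ⟨2, 1, 1, 0, 3⟩, ⟨2, 1, 1, 2, 3⟩,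
   ⟨2, 1, 2, 0, 3⟩, ⟨2, 1, 2, 2, 3⟩, ⟨2, 1, 3, 0, 3⟩, ⟨2, 1, 3, 2, 3⟩, ⟨2, 2, 1, 0, 3⟩, ⟨2, 2, 1, 2, 3⟩]

/-- The variants of O'Nan type. -/
def isON (v : Var) : Bool :=
  Nat.beq v.r 2 && Nat.beq v.k 0 &&
    ((Nat.beq v.a 1 && Nat.beq v.b 1) || (Nat.beq v.a 1 && Nat.beq v.b 2) || (Nat.beq v.a 2 && Nat.beq v.b 1))

theorem checkFus_all : variants.all (fun v => Nat.beq v.eps 1 || checkFus v) = true := by decide +kernel

theorem centList_all : variants.all (fun v => Nat.beq (centList v).length 256) = true := by decide +kernel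

theorem checkInv_all : variants.all (fun v => isON v || checkInv v) = true := by decide +kernel

end Cfsg.Agent.L34Fusion
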