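import Cfsg.Agent.Lib.L34Fusion.Interp
import Cfsg.Agent.Lib.L34Univ.Variants

/-!
A group with the shape of the involution centraliser of the O'Nan group follows the codes of one of the variants.
-/

set_option autoImplicit false
set_option linter.unusedSectionVars false
set_option maxRecDepth 100000

namespace Cfsg.Agent.L34Fusion

open Cfsg.Agent.L34Mult Cfsg.Agent.L34Univ

universe u w

/-- The representatives on the coefficients. -/
def coefR : ℕ → Coef → Coef
  | 0 => coefFrob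
  | 1 => coefGraph
  | _ => fun c => coefGraph (coefFrob c)

theorem exists_variant : ∀ r : Fin 3, ∀ a b K E : ZMod 4,
    (∃ c : Coef, a * c.1 + b * c.2 = 1) →
    (∀ c : Coef, a * (coefR r.val c).1 + b * (coefR r.val c).2 = E * (a * c.1 + b * c.2)) → E * K = K →
    ∃ v ∈ variants, ∃ s : ZMod 4, s * s = 1 ∧ v.r = r.val ∧ (v.a : ZMod 4) = s * a ∧ (v.b : ZMod 4) = s * b ∧
      (v.k : ZMod 4) = s * K ∧ v.eps = E.val := by
  decide +kernel

variable {F : Type u} [Field F] [Fintype F] {W : Frame F} {C : Type w} [Group C] {M : Subgroup C} [M.Normal]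

/-- The graph-field automorphism in normal form. -/
theorem gf_nf {φ : M →* Matrix.ProjectiveSpecialLinearGroup (Fin 3) F} (D : Ctx W φ) (b : M →* M)
    (hb : ∀ m, φ (b m) = (autGraph * autFrob W : MulAut (Matrix.ProjectiveSpecialLinearGroup (Fin 3) F)) (φ m))
    (c : Coef) (x y e : F) :
    b (D.nf c x y e) = D.nf (coefGraph (coefFrob c) + W.teich (x * x * y)) (y * y) (x * x)
      (e * e + x * x * (y * y)) := by
  let φ' : M →* Matrix.ProjectiveSpecialLinearGroup (Fin 3) F := (autFrob W).toMonoidHom.comp φ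
  have hker : φ'.ker ≤ Subgroup.center M := fun g hg => D.central ((autFrob W).map_eq_one_iff.1 hg)
  obtain ⟨D'⟩ : Nonempty (Ctx W φ') := Ctx.exists_ctx ((autFrob W).surjective.comp D.surjective) hker
  have h1 : ∀ m, φ' (MonoidHom.id M m) = autFrob W (φ m) := fun _ => rfl
  have h2 : ∀ m, φ (b m) = autGraph (φ' m) := fun m => by rw [hb]; rfl
  have h := D.frob_nf D' (MonoidHom.id M) h1 c x y e
  rw [MonoidHom.id_apply] at h
  rw [h, D'.graph_nf D b h2, show (y * y) ^ 2 = y ^ 4 by ring, W.pow_four]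

theorem exists_model [Finite C] (X : Coords M W) :
    ∃ v ∈ variants, ∃ Y : Model v W M, Y.φ = X.φ ∧ HEq Y.D X.D ∧ Y.g = X.g ∧ ∃ s : ZMod 4, s * s = 1 ∧
      (v.a : ZMod 4) = s * X.a ∧ (v.b : ZMod 4) = s * X.b ∧
      (v.r = 2 → X.ρ = autGraph * autFrob W) := by
  classical
  have hker : ∀ c, X.φ (X.D.iota c) = 1 := X.D.iota_map
  let β : M →* M := (MulAut.conjNormal X.g : MulAut M).toMonoidHom
  have hβc : ∀ x : M, ((β x : M) : C) = X.g * x * X.g⁻¹ := fun x => MulAut.conjNormal_apply X.g x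
  have hβ : ∀ x, X.φ (β x) = X.ρ (X.φ x) := fun x =>
    (congrArg X.φ (Subtype.ext (hβc x) : β x = ⟨X.g * x * X.g⁻¹, X.conj_mem x⟩)).trans (X.map_conj x)
  let lin : Coef → ZMod 4 := fun c => X.a * c.1 + X.b * c.2
  obtain ⟨r, hr2, hr, hnf⟩ : ∃ r : Fin 3, (r.val = 2 → X.ρ = autGraph * autFrob W) ∧ (∀ c, β (X.D.iota c) = X.D.iota (coefR r.val c)) ∧
      (∀ a b e : ℕ, a < 4 → b < 4 → e < 4 →
        β (X.D.x (fe W a) * X.D.y (fe W b) * X.D.z (fe W e + fe W a * fe W b)) =
          if r.val = 0 then X.D.nf 0 (fe W (fsq a)) (fe W (fsq b)) (fe W (fsq e))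
          else if r.val = 1 then X.D.nf (W.teich (fe W (fmul a (fsq b)))) (fe W b) (fe W a) (fe W (Nat.xor e (fmul a b)))
          else X.D.nf (W.teich (fe W (fmul (fsq a) b))) (fe W (fsq b)) (fe W (fsq a))
            (fe W (Nat.xor (fsq e) (fmul (fsq a) (fsq b))))) := by
    have h0 : ∀ a b e : F, X.D.x a * X.D.y b * X.D.z (e + a * b) = X.D.nf 0 a b e := fun a b e => by
      rw [Ctx.nf, X.D.iota_zero, one_mul]
    rcases X.rep with h | h | h
    · refine ⟨0, fun h => absurd h (by decide), X.D.frob_iota X.D β (fun m => (hβ m).trans (by rw [h])), fun a b e ha hb he => ?_⟩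
      rw [if_pos (by rfl), h0, X.D.frob_nf X.D β (fun m => (hβ m).trans (by rw [h])), fe_fsq W ha, fe_fsq W hb,
        fe_fsq W he]
      rfl
    · refine ⟨1, fun h => absurd h (by decide), X.D.graph_iota X.D β (fun m => (hβ m).trans (by rw [h])), fun a b e ha hb he => ?_⟩
      rw [if_neg (by decide), if_pos (by rfl), h0, X.D.graph_nf X.D β (fun m => (hβ m).trans (by rw [h])),
        fe_fmul W ha (fsq_lt b), fe_fsq W hb, fe_xor W he (fmul_lt a b), fe_fmul W ha hb, pow_two,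
        show coefGraph 0 = 0 from rfl, zero_add]
    · refine ⟨2, fun _ => h, X.D.graphFrob_iota X.D.surjective X.D.central β (fun m => (hβ m).trans (by rw [h])),
        fun a b e ha hb he => ?_⟩
      rw [if_neg (by decide), if_neg (by decide), h0, gf_nf X.D β (fun m => (hβ m).trans (by rw [h])),
        fe_fmul W (fsq_lt a) hb, fe_fsq W ha, fe_fsq W hb, fe_xor W (fsq_lt e) (fmul_lt _ _),
        fe_fmul W (fsq_lt a) (fsq_lt b), fe_fsq W he, fe_fsq W ha, fe_fsq W hb,
        show coefGraph (coefFrob 0) = 0 from rfl, zero_add]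
  obtain ⟨c1, hc1⟩ := X.unit
  have hpow : ∀ m n : ℕ, ((m : ZMod 4) = (n : ZMod 4) ↔ X.z ^ m = X.z ^ n) := fun m n => by
    rw [ZMod.natCast_eq_natCast_iff', pow_inj_mod, X.orderOf_z]
  have hval : ∀ k l : ZMod 4, X.z ^ k.val = X.z ^ l.val → k = l := fun k l h => by
    have := (hpow k.val l.val).2 h
    rwa [ZMod.natCast_zmod_val, ZMod.natCast_zmod_val] at this
  set E := lin (coefR r.val c1) with hE
  have hz1 : X.D.iota c1 = X.z := by rw [X.iota_eq, hc1, show (1 : ZMod 4).val = 1 from rfl, pow_one]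
  have hβz : β X.z = X.z ^ E.val := by
    have := hr c1
    rw [hz1, X.iota_eq] at this
    exact this
  have hEc : ∀ c : Coef, X.a * (coefR r.val c).1 + X.b * (coefR r.val c).2 = E * (X.a * c.1 + X.b * c.2) := fun c => by
    refine hval _ _ ?_
    rw [← X.iota_eq, ← hr, X.iota_eq, map_pow, hβz, ← pow_mul]
    refine (hpow _ _).1 ?_
    simp only [Nat.cast_mul, ZMod.natCast_zmod_val]
  set K := lin X.sq with hK
  have hgK : (⟨X.g * X.g, by rw [X.g_sq]; exact SetLike.coe_mem _⟩ : M) = X.z ^ K.val := Subtype.ext (by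
    rw [← X.iota_eq]; exact X.g_sq)
  have hEK : E * K = K := by
    refine hval _ _ ?_
    rw [show (X.z ^ (E * K).val) = β (X.z ^ K.val) by
      rw [map_pow, hβz, ← pow_mul]; refine (hpow _ _).1 ?_; simp only [Nat.cast_mul, ZMod.natCast_zmod_val],
      ← hgK]
    refine Subtype.ext ?_
    rw [hβc]
    show X.g * (X.g * X.g) * X.g⁻¹ = X.g * X.g
    group
  obtain ⟨v, hv, s, hs, hvr, hva, hvb, hvk, hve⟩ := exists_variant r X.a X.b K E ⟨c1, hc1⟩ hEc hEK
  let z' : M := X.z ^ s.val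
  have hz' : ∀ k : ZMod 4, z' ^ k.val = X.z ^ (s * k).val := fun k => by
    rw [← pow_mul]; refine (hpow _ _).1 ?_; simp only [Nat.cast_mul, ZMod.natCast_zmod_val]
  have hord : orderOf z' = 4 := by
    show orderOf (X.z ^ s.val) = 4
    rw [orderOf_pow, X.orderOf_z]
    have : ∀ s : ZMod 4, s * s = 1 → (4 : ℕ) / Nat.gcd 4 s.val = 4 := by decide
    exact this s hs
  have hzp : ∀ n : ℕ, z' ^ n = X.z ^ (s * (n : ZMod 4)).val := fun n => by
    rw [← hz', ← pow_mod_orderOf z' n, hord, ZMod.val_natCast]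
  have hzi : ∀ n : ℕ, X.z ^ n = z' ^ (s * (n : ZMod 4)).val := fun n => by
    rw [hz', ← mul_assoc, hs, one_mul]; refine (hpow _ _).1 ?_; rw [ZMod.natCast_zmod_val]
  have hcoef : ∀ a, a < 4 → (X.D.iota (W.teich (fe W a))) = z' ^ lt v a := fun a ha => by
    rw [X.iota_eq, teich_fe W ha, hzp]
    congr 2
    simp only [lt, Nat.add_eq, Nat.mul_eq] at *
    rw [show ((Nat.mod (v.a * Nat.land (Nat.shiftRight 196 (2 * a)) 3 + v.b * Nat.land (Nat.shiftRight 208 (2 * a)) 3) 4 :
      ℕ) : ZMod 4) = ((v.a * Nat.land (Nat.shiftRight 196 (2 * a)) 3 + v.b * Nat.land (Nat.shiftRight 208 (2 * a)) 3 : ℕ) :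
      ZMod 4) from ZMod.natCast_mod _ 4, Nat.cast_add, Nat.cast_mul, Nat.cast_mul, hva, hvb]
    linear_combination -(X.a * (Nat.land (Nat.shiftRight 196 (2 * a)) 3 : ZMod 4) +
      X.b * (Nat.land (Nat.shiftRight 208 (2 * a)) 3 : ZMod 4)) * hs
  refine ⟨v, hv, ⟨X.φ, X.D, X.g, z', X.g_notMem, hord, ?_, ?_, ?_, ?_, ?_⟩, rfl, HEq.rfl, rfl, s, hs, hva, hvb,
    fun h => hr2 (hvr ▸ h)⟩
  · rw [map_pow, ← hz1, hker, one_pow]
  · intro c
    rw [X.iota_eq, hzp]
    congr 2
    simp only [Nat.cast_add, Nat.cast_mul, ZMod.natCast_zmod_val, hva, hvb]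
    linear_combination -(X.a * c.1 + X.b * c.2) * hs
  · refine ⟨((s * c1.1 : ZMod 4), (s * c1.2 : ZMod 4)), ?_⟩
    rw [hva, hvb]
    linear_combination (X.a * c1.1 + X.b * c1.2) * hs + hc1
  · have : (⟨X.g * X.g, by rw [X.g_sq]; exact SetLike.coe_mem _⟩ : M) = z' ^ v.k := by
      rw [hgK, hzp, hvk, ← mul_assoc, hs, one_mul]
    exact congrArg Subtype.val this
  · intro n hn
    rw [← hβc]
    refine congrArg Subtype.val ?_
    rw [inn, map_mul, map_pow, hnf _ _ _ (cA_lt n) (cB_lt n) (cE_lt n)]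
    have hj : β z' ^ Nat.land n 3 = z' ^ (v.eps * Nat.land n 3) := by
      rw [hve, pow_mul, show z' ^ E.val = β z' from ?_]
      rw [map_pow, hβz, ← pow_mul, ← pow_mul, mul_comm]
    rw [hj]
    have hn0 : ∀ a b e : ℕ, a < 4 → b < 4 → e < 4 → ∀ j k : ℕ,
        z' ^ j * (z' ^ k * (X.D.x (fe W a) * X.D.y (fe W b) * X.D.z (fe W e + fe W a * fe W b))) =
          inn X.D z' (enc (j + k) a b e 0) := fun a b e ha hb he j k => by
      obtain ⟨h1, h2, h3, h4, -, -⟩ := enc_coords (z := j + k) (i := 0) ha hb he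
      rw [inn, h1, h2, h3, h4, ← mul_assoc, ← pow_add]
      congr 1
      conv_lhs => rw [← pow_mod_orderOf, hord]
    have ht : r.val = 0 ∨ r.val = 1 ∨ r.val = 2 := by omega
    rcases ht with h | h | h <;> unfold act <;> rw [hvr, h]
    · rw [show Nat.beq 0 0 = true from rfl, cond_true, if_pos rfl, Ctx.nf, X.D.iota_zero]
      exact (congrArg (fun u => z' ^ (v.eps * Nat.land n 3) * (u * _)) (pow_zero z').symm).trans
        (hn0 _ _ _ (fsq_lt _) (fsq_lt _) (fsq_lt _) _ 0)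
    · rw [show Nat.beq 1 0 = false from rfl, cond_false, show Nat.beq 1 1 = true from rfl, cond_true,
        if_neg (by decide), if_pos rfl, Ctx.nf, hcoef _ (fmul_lt _ _)]
      exact hn0 _ _ _ (cB_lt n) (cA_lt n) (xor_lt (cE_lt n) (fmul_lt _ _)) _ _
    · rw [show Nat.beq 2 0 = false from rfl, cond_false, show Nat.beq 2 1 = false from rfl, cond_false,
        if_neg (by decide), if_neg (by decide), Ctx.nf, hcoef _ (fmul_lt _ _)]
      exact hn0 _ _ _ (fsq_lt _) (fsq_lt _) (xor_lt (fsq_lt _) (fmul_lt _ _)) _ _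

end Cfsg.Agent.L34Fusion
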