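import Cfsg.Agent.Lib.L34Fusion.Group
import Cfsg.Agent.Lib.L34Fusion.FromCoords
import Cfsg.Agent.Lib.ZStar.Consequences

/-!
In a simple group with the involution centraliser of O'Nan type the central involution is exchanged with an inner
one, so the centraliser follows the codes of a variant of O'Nan type.
-/

set_option autoImplicit false
set_option linter.unusedSectionVars false
set_option maxRecDepth 100000

namespace Cfsg.Agent.L34Fusion

open Cfsg.Agent.L34Mult Cfsg.Agent.L34Univ

universe u w

variable {F : Type u} [Field F] [Fintype F] {W : Frame F} {G : Type w} [Group G] [Finite G] {t : G}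
variable {M : Subgroup (Subgroup.centralizer ({t} : Set G))} {v : Var} {X : Model v W M}

/-- The element of `G` of a code. -/
noncomputable def Model.elG (X : Model v W M) (n : ℕ) : G := ((X.el n : Subgroup.centralizer ({t} : Set G)) : G)

theorem Good.el_two_eq (hX : Good X) (ht : orderOf t = 2)
    (hout : Subgroup.centralizer (M : Set (Subgroup.centralizer ({t} : Set G))) ≤ M) :
    X.el 2 = ⟨t, Subgroup.mem_centralizer_singleton_iff.2 rfl⟩ := by
  have hc : ∀ c : Subgroup.centralizer ({t} : Set G),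
      c * ⟨t, Subgroup.mem_centralizer_singleton_iff.2 rfl⟩ = ⟨t, Subgroup.mem_centralizer_singleton_iff.2 rfl⟩ * c :=
    fun c => Subtype.ext (Subgroup.mem_centralizer_singleton_iff.1 c.2)
  set t' : Subgroup.centralizer ({t} : Set G) := ⟨t, Subgroup.mem_centralizer_singleton_iff.2 rfl⟩
  have hm : t' ∈ M := hout (Subgroup.mem_centralizer_iff.2 fun x _ => hc x)
  have hz : (⟨t', hm⟩ : M) ∈ Subgroup.center M := Subgroup.mem_center_iff.2 fun x => Subtype.ext (hc x)
  obtain ⟨j, hj⟩ := hX.ker ⟨t', hm⟩ ((ker_eq_center X.D.surjective X.D.central _).2 hz)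
  have ho : orderOf (⟨t', hm⟩ : M) = 2 := by rw [← Subgroup.orderOf_coe, ← Subgroup.orderOf_coe]; exact ht
  rw [← X.pow_mod] at hj
  rw [← hj] at ho
  rcases (show j % 4 = 0 ∨ j % 4 = 1 ∨ j % 4 = 2 ∨ j % 4 = 3 by omega) with e | e | e | e <;> rw [e] at ho hj
  · rw [pow_zero, orderOf_one] at ho; omega
  · rw [pow_one, X.orderOf_z] at ho; omega
  · rw [X.el_two, hj]
  · rw [orderOf_pow, X.orderOf_z] at ho; norm_num at ho

variable [IsSimpleGroup G] [M.Normal]

omit [M.Normal] in
theorem exists_conj_ne (ht : orderOf t = 2) (hne : ∃ a b : M, a * b ≠ b * a) :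
    ∃ g : G, g * t * g⁻¹ ≠ t ∧ Commute t (g * t * g⁻¹) := by
  by_contra hh
  push Not at hh
  have hI : Cfsg.IsIsolatedInvolution t := ⟨ht, fun g hg => by_contra fun hn => hh g hn hg⟩
  have hO : Cfsg.oddCore G = ⊥ := ZStar.Consequences.oddCore_eq_bot fun N hN hodd => by
    rcases hN.eq_bot_or_eq_top with hb | htop
    · exact hb
    · rw [htop, Subgroup.card_top] at hodd
      exact absurd (even_iff_two_dvd.2 (ht ▸ orderOf_dvd_natCard t)) (Nat.not_even_iff_odd.2 hodd)
  have hz := ZStar.Main.mem_center_of_isolated hO hI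
  rcases (inferInstance : (Subgroup.center G).Normal).eq_bot_or_eq_top with e | e
  · rw [e, Subgroup.mem_bot] at hz
    rw [hz, orderOf_one] at ht
    omega
  · obtain ⟨a, b, hab⟩ := hne
    exact hab (Subtype.ext (Subtype.ext
      (Subgroup.mem_center_iff.1 (e ▸ Subgroup.mem_top ((b : Subgroup.centralizer ({t} : Set G)) : G)) _)))

/-- An inner involution is conjugate to the central one and exchanged with it. -/
theorem Good.exists_swap (hX : Good X) [CharP F 2] (ht : orderOf t = 2)
    (hout : Subgroup.centralizer (M : Set (Subgroup.centralizer ({t} : Set G))) ≤ M)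
    (hne : ∃ a b : M, a * b ≠ b * a) :
    ∃ h : G, h * t * h⁻¹ = X.elG 64 ∧ h * X.elG 64 * h⁻¹ = t := by
  have htt : t * t = 1 := by rw [← pow_two, ← ht, pow_orderOf_eq_one]
  let H := Subgroup.centralizer ({t} : Set G)
  set t' : H := ⟨t, Subgroup.mem_centralizer_singleton_iff.2 rfl⟩ with ht'
  have h2 : X.el 2 = t' := hX.el_two_eq ht hout
  have hcen : ∀ c : H, Commute c (X.el 2) := fun c => by
    rw [h2]; exact Subtype.ext (Subgroup.mem_centralizer_singleton_iff.1 c.2)
  have hz2 : ((X.z ^ 2 : M) : H) = t' := by rw [← X.el_two, h2]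
  have hmem : ∀ {x : G}, Commute x t → x ∈ H := fun h => Subgroup.mem_centralizer_singleton_iff.2 h
  have hcomm : ∀ c : H, Commute (c : G) t := fun c => Subgroup.mem_centralizer_singleton_iff.1 c.2
  have hsqM : ∀ c : H, c * c ∈ M := fun c => Subgroup.mul_self_mem_of_index_two hX.index_two c
  -- an inner involution other than the central one is conjugate to the marked one
  have hclass : ∀ u : H, u ∈ M → u * u = 1 → (u : G) ≠ 1 → (u : G) ≠ t →
      ∃ c : H, (c : G) * u * (c : G)⁻¹ = X.elG 64 := fun u hu hu2 h1 h2' => by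
    obtain ⟨m, hm⟩ := hX.exists_conj_z1 (u := ⟨u, hu⟩) (Subtype.ext hu2)
      (fun e => h1 (congrArg (fun x : M => ((x : H) : G)) e))
      (fun e => h2' ((congrArg (fun x : M => ((x : H) : G)) e).trans (congrArg Subtype.val hz2)))
    refine ⟨m, ?_⟩
    rw [Model.elG, X.el_one']
    exact congrArg (fun x : M => ((x : H) : G)) hm
  -- the fusion
  have hfus : IsConj (X.elG 64) t := by
    obtain ⟨g, hgne, hgc⟩ := exists_conj_ne ht hne
    set y : H := ⟨g * t * g⁻¹, hmem hgc.symm⟩ with hy
    have hy2 : y * y = 1 := Subtype.ext (by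
      show g * t * g⁻¹ * (g * t * g⁻¹) = 1
      calc g * t * g⁻¹ * (g * t * g⁻¹) = g * (t * t) * g⁻¹ := by group
        _ = 1 := by rw [htt, mul_one, mul_inv_cancel])
    have hy1 : (y : G) ≠ 1 := fun h => by
      have : t = 1 := by simpa [hy] using h
      rw [this, orderOf_one] at ht
      omega
    have hyt : IsConj (y : G) t := (isConj_iff.2 ⟨g, rfl⟩).symm
    by_cases hyM : y ∈ M
    · obtain ⟨c, hc⟩ := hclass y hyM hy2 hy1 hgne
      exact (isConj_iff.2 ⟨(c : G), hc⟩).symm.trans hyt
    by_contra hno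
    have hno' : ∀ u : H, u ∈ M → u * u = 1 → (u : G) ≠ 1 → (u : G) ≠ t → ¬ IsConj (u : G) t :=
      fun u hu hu2 h1 h2' h => by
        obtain ⟨c, hc⟩ := hclass u hu hu2 h1 h2'
        exact hno ((isConj_iff.2 ⟨(c : G), hc⟩).symm.trans h)
    obtain ⟨f, hf⟩ := isConj_iff.1 hyt
    have hfy : ∀ x : G, Commute x (y : G) → Commute (f * x * f⁻¹) t := fun x hx => by
      rw [← hf]; exact hx.map (MulAut.conj f).toMonoidHom
    set y' : H := ⟨f * t * f⁻¹, hmem (hfy t hgc)⟩ with hy'
    have hy'2 : y' * y' = 1 := Subtype.ext (by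
      show f * t * f⁻¹ * (f * t * f⁻¹) = 1
      calc f * t * f⁻¹ * (f * t * f⁻¹) = f * (t * t) * f⁻¹ := by group
        _ = 1 := by rw [htt, mul_one, mul_inv_cancel])
    have hy'1 : (y' : G) ≠ 1 := fun h => by
      have : t = 1 := by simpa [hy'] using h
      rw [this, orderOf_one] at ht
      omega
    have hy't : (y' : G) ≠ t := fun h => by
      rw [← hf] at h
      exact hgne (mul_left_cancel (mul_right_cancel h)).symm
    have hy'conj : IsConj (y' : G) t := (isConj_iff.2 ⟨f, rfl⟩).symm
    have hy'M : y' ∉ M := fun h => hno' y' h hy'2 hy'1 hy't hy'conj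
    by_cases he : v.eps = 1
    · have hcz := hX.commute_z he hyM
      set q : H := ⟨f * ((X.z : H) : G) * f⁻¹, hmem (hfy _ (congrArg Subtype.val hcz.eq).symm)⟩ with hq
      apply hy'M
      have : q * q = y' := Subtype.ext (by
        show f * ((X.z : H) : G) * f⁻¹ * (f * ((X.z : H) : G) * f⁻¹) = f * t * f⁻¹
        have hzz : ((X.z : H) : G) * ((X.z : H) : G) = t := by
          have := congrArg Subtype.val hz2
          rwa [pow_two] at this
        exact Eq.trans (b := f * (((X.z : H) : G) * ((X.z : H) : G)) * f⁻¹) (by group) (congrArg (f * · * f⁻¹) hzz))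
      exact this ▸ hsqM q
    · obtain ⟨u, huM, hu2, hu1, hut, huy⟩ := hX.exists_comm_inner he hy2 hyM hcen
      rw [h2] at hut
      have huy' : Commute (u : G) (y : G) := congrArg Subtype.val huy.eq
      have hu1' : (u : G) ≠ 1 := fun h => hu1 (Subtype.ext h)
      have hut' : (u : G) ≠ t := fun h => hut (Subtype.ext h)
      have htG : ∀ x : G, x * x = 1 → ∀ c : G, c * x * c⁻¹ * (c * x * c⁻¹) = 1 := fun x hx c => by
        calc c * x * c⁻¹ * (c * x * c⁻¹) = c * (x * x) * c⁻¹ := by group
          _ = 1 := by rw [hx, mul_one, mul_inv_cancel]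
      set a : H := ⟨f * u * f⁻¹, hmem (hfy _ huy')⟩ with ha
      have ha2 : a * a = 1 := Subtype.ext (htG _ (congrArg Subtype.val hu2) f)
      have hay : Commute a y' := Subtype.ext ((hcomm u).map (MulAut.conj f).toMonoidHom).eq
      have hna : ¬ IsConj (a : G) t := fun h =>
        hno' u huM hu2 hu1' hut' ((isConj_iff.2 ⟨f, rfl⟩ : IsConj (u : G) (a : G)).trans h)
      -- the product with the conjugate of the central involution
      have hutM : u * t' ∈ M := M.mul_mem huM (hout (Subgroup.mem_centralizer_iff.2 fun x _ =>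
        Subtype.ext (Subgroup.mem_centralizer_singleton_iff.1 x.2)))
      have hne1 : (u : G) * t ≠ 1 := fun h => hut' (by
        rw [← mul_one ((u : G)), ← htt, ← mul_assoc, h, one_mul])
      have hnet : (u : G) * t ≠ t := fun h => hu1' (mul_eq_right.1 h)
      have hnat : ¬ IsConj ((a : G) * y') t := fun h => by
        refine hno' (u * t') hutM (Subtype.ext ?_) hne1 hnet
          ((isConj_iff.2 ⟨f, ?_⟩ : IsConj ((u : G) * t) ((a : G) * y')).trans h)
        · show (u : G) * t * ((u : G) * t) = 1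
          calc (u : G) * t * ((u : G) * t) = (u : G) * u * (t * t) := (hcomm u).symm.mul_mul_mul_comm _ _
            _ = 1 := by rw [show (u : G) * u = 1 from congrArg Subtype.val hu2, htt, one_mul]
        · show f * ((u : G) * t) * f⁻¹ = f * u * f⁻¹ * (f * t * f⁻¹)
          group
      have hconj : ∀ {p q : H}, IsConj p q → IsConj (p : G) (q : G) := fun h => H.subtype.map_isConj h
      by_cases haM : a ∈ M
      · have h1 : a ≠ 1 := fun h => hu1' (by
          have h' : f * (u : G) * f⁻¹ = 1 := congrArg Subtype.val h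
          simpa using h')
        have h2' : a ≠ X.el 2 := fun h => by
          rw [h2] at h
          exact hna (isConj_iff.2 ⟨1, by rw [one_mul, inv_one, mul_one]; exact congrArg Subtype.val h⟩)
        have := hconj (hX.conj_outer he hy'2 hy'M ha2 haM h1 h2' hay hcen)
        exact hnat (this.symm.trans hy'conj)
      · have hwM : a * y' ∈ M := (Subgroup.mul_mem_iff_of_index_two hX.index_two).2 (iff_of_false haM hy'M)
        have hw2 : a * y' * (a * y') = 1 := by
          rw [hay.symm.mul_mul_mul_comm, ha2, hy'2, one_mul]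
        have hw1 : a * y' ≠ 1 := fun h => hne1 (by
          have h' : f * (u : G) * f⁻¹ * (f * t * f⁻¹) = 1 := congrArg Subtype.val h
          have h'' : f * ((u : G) * t) * f⁻¹ = 1 := by rw [← h']; group
          simpa using h'')
        have hwt : a * y' ≠ X.el 2 := fun h => by
          rw [h2] at h
          have h' : f * (u : G) * f⁻¹ * (f * t * f⁻¹) = f * (y : G) * f⁻¹ := (congrArg Subtype.val h).trans hf.symm
          have h'' : f * ((u : G) * t) * f⁻¹ = f * (y : G) * f⁻¹ := by rw [← h']; group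
          have hey : u * t' = y := Subtype.ext (mul_left_cancel (mul_right_cancel h''))
          exact hyM (hey ▸ hutM)
        have hc : Commute (a * y') y' := hay.mul_left (Commute.refl y')
        have := hconj (hX.conj_outer he hy'2 hy'M hw2 hwM hw1 hwt hc hcen)
        rw [mul_assoc a y' y', hy'2, mul_one] at this
        exact hna (this.symm.trans hy'conj)
  obtain ⟨h, hh⟩ := isConj_iff.1 hfus
  -- the image of the central involution is inner
  have hzc : Commute ((X.z : H) : G) (X.elG 64) := by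
    rw [Model.elG, X.el_one']
    exact congrArg (fun x : M => ((x : H) : G)) (X.z_central (X.D.z 1)).symm.eq
  have hctz : Commute t (X.elG 64) := (hcomm _).symm
  have hd : ∀ x : G, Commute x (X.elG 64) → Commute (h * x * h⁻¹) t := fun x hx => by
    rw [← hh]; exact hx.map (MulAut.conj h).toMonoidHom
  set s : H := ⟨h * t * h⁻¹, hmem (hd t hctz)⟩ with hs
  set q : H := ⟨h * ((X.z : H) : G) * h⁻¹, hmem (hd _ hzc)⟩ with hq
  have hqs : q * q = s := Subtype.ext (by
    show h * ((X.z : H) : G) * h⁻¹ * (h * ((X.z : H) : G) * h⁻¹) = h * t * h⁻¹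
    have hzz : ((X.z : H) : G) * ((X.z : H) : G) = t := by
      have := congrArg Subtype.val hz2
      rwa [pow_two] at this
    exact Eq.trans (b := h * (((X.z : H) : G) * ((X.z : H) : G)) * h⁻¹) (by group) (congrArg (h * · * h⁻¹) hzz))
  obtain ⟨c, hc⟩ := hclass s (hqs ▸ hsqM q) (Subtype.ext (by
      show h * t * h⁻¹ * (h * t * h⁻¹) = 1
      calc h * t * h⁻¹ * (h * t * h⁻¹) = h * (t * t) * h⁻¹ := by group
        _ = 1 := by rw [htt, mul_one, mul_inv_cancel]))
    (fun e => by
      have : t = 1 := by simpa [hs] using e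
      rw [this, orderOf_one] at ht
      omega)
    (fun e => by
      have e1 : h * t * h⁻¹ = h * X.elG 64 * h⁻¹ := e.trans hh.symm
      have e2 : X.el 2 = X.el 64 := Subtype.ext (by
        rw [h2]; exact mul_left_cancel (mul_right_cancel e1))
      exact absurd (X.el_injective (by norm_num) (by norm_num) e2) (by norm_num))
  refine ⟨(c : G) * h, ?_, ?_⟩
  · calc (c : G) * h * t * ((c : G) * h)⁻¹ = (c : G) * (h * t * h⁻¹) * (c : G)⁻¹ := by group
      _ = X.elG 64 := hc
  · calc (c : G) * h * X.elG 64 * ((c : G) * h)⁻¹ = (c : G) * (h * X.elG 64 * h⁻¹) * (c : G)⁻¹ := by group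
      _ = t := by rw [hh, (hcomm c).eq, mul_inv_cancel_right]

omit [IsSimpleGroup G] in
theorem weight_eq (v : Var) {A : List ℕ} (hA : A.Nodup) (u : ℕ) :
    weight v A u = ∑ w ∈ A.toFinset.filter (fun w => mulN v w w = u),
      (A.toFinset.filter (fun q => commN v w q = true)).card := by
  classical
  rw [weight, ← List.sum_toFinset _ (hA.filter _), List.toFinset_filter]
  refine Finset.sum_congr (Finset.filter_congr fun x _ => beq_iff) fun x _ => ?_
  rw [← List.toFinset_filter, List.toFinset_card_of_nodup (hA.filter _)]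

/-- The exchange singles out the variants of O'Nan type. -/
theorem Good.isON_of_swap (hX : Good X) (ht : orderOf t = 2)
    (hout : Subgroup.centralizer (M : Set (Subgroup.centralizer ({t} : Set G))) ≤ M)
    {h : G} (h1 : h * t * h⁻¹ = X.elG 64) (h2 : h * X.elG 64 * h⁻¹ = t) : isON v = true := by
  classical
  have hall := List.all_eq_true.1 checkInv_all v hX.mem_variants
  rw [Bool.or_eq_true] at hall
  refine hall.resolve_right ?_
  intro hci
  rw [checkInv, Bool.and_eq_true, Bool.not_eq_true'] at hci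
  refine Bool.false_ne_true (hci.2.symm.trans (beq_iff.2 ?_))
  set A := centList v with hA
  have hmemA : ∀ {n}, n ∈ A ↔ n < 512 ∧ commN v n 64 = true := fun {n} => by
    rw [hA, centList, List.mem_filter, List.mem_range]
  have hnd : A.Nodup := List.nodup_range.filter _
  have h2' : X.elG 2 = t := congrArg Subtype.val (hX.el_two_eq ht hout)
  have hinj : ∀ {p q}, p < 512 → q < 512 → X.elG p = X.elG q → p = q := fun hp hq e =>
    X.el_injective hp hq (Subtype.ext e)
  have hmul : ∀ {p q}, p < 512 → q < 512 → X.elG (mulN v p q) = X.elG p * X.elG q := fun hp hq =>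
    (congrArg Subtype.val (X.el_mul hp hq)).trans rfl
  have hcomm : ∀ n, Commute (X.elG n) t := fun n => Subgroup.mem_centralizer_singleton_iff.1 (X.el n).2
  have hex : ∀ n, n ∈ A → ∃ m, m ∈ A ∧ X.elG m = h * X.elG n * h⁻¹ := fun n hn => by
    obtain ⟨hn1, hn2⟩ := hmemA.1 hn
    have hc : Commute (X.elG n) (X.elG 64) :=
      congrArg Subtype.val ((X.commN_iff hn1 (by norm_num)).1 hn2).eq
    have hc1 : Commute (h * X.elG n * h⁻¹) t := (congrArg (Commute (h * X.elG n * h⁻¹)) h2).mp (show Commute (h * X.elG n * h⁻¹) (h * X.elG 64 * h⁻¹) from hc.map (MulAut.conj h).toMonoidHom)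
    have hc2 : Commute (h * X.elG n * h⁻¹) (X.elG 64) := (congrArg (Commute (h * X.elG n * h⁻¹)) h1).mp (show Commute (h * X.elG n * h⁻¹) (h * t * h⁻¹) from (hcomm n).map (MulAut.conj h).toMonoidHom)
    set x : Subgroup.centralizer ({t} : Set G) :=
      ⟨h * X.elG n * h⁻¹, Subgroup.mem_centralizer_singleton_iff.2 hc1⟩
    have hx : Commute x (X.el 64) := Subtype.ext hc2.eq
    obtain ⟨m, hm, e⟩ := hX.exists_el_of_commute hx
    exact ⟨m, hmemA.2 ⟨hm, (X.commN_iff hm (by norm_num)).2 (by rw [e]; exact hx)⟩, congrArg Subtype.val e⟩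
  let f : ℕ → ℕ := fun n => if hn : n ∈ A then (hex n hn).choose else 0
  have hf : ∀ {n}, n ∈ A → f n ∈ A ∧ X.elG (f n) = h * X.elG n * h⁻¹ := fun {n} hn => by
    simp only [f, dif_pos hn]
    exact (hex n hn).choose_spec
  have hfinj : ∀ a ∈ A, ∀ b ∈ A, f a = f b → a = b := fun a ha b hb e => by
    refine hinj (hmemA.1 ha).1 (hmemA.1 hb).1 ?_
    have := (hf ha).2.symm.trans ((congrArg X.elG e).trans (hf hb).2)
    exact mul_left_cancel (mul_right_cancel this)
  have hfsurj : Set.SurjOn f A.toFinset A.toFinset :=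
    Finset.surjOn_of_injOn_of_card_le f (fun a ha => List.mem_toFinset.2 (hf (List.mem_toFinset.1 ha)).1)
      (fun a ha b hb => hfinj a (List.mem_toFinset.1 ha) b (List.mem_toFinset.1 hb)) le_rfl
  have hfsq : ∀ {n}, n ∈ A → (mulN v n n = 2 ↔ mulN v (f n) (f n) = 64) := fun {n} hn => by
    have hn1 := (hmemA.1 hn).1
    have hfn := (hmemA.1 (hf hn).1).1
    have e1 : X.elG (mulN v (f n) (f n)) = h * (X.elG n * X.elG n) * h⁻¹ := by
      rw [hmul hfn hfn, (hf hn).2]; group
    refine ⟨fun e => hinj (mulN_lt X hfn) (by norm_num) ?_, fun e => hinj (mulN_lt X hn1) (by norm_num) ?_⟩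
    · rw [e1, ← hmul hn1 hn1, e, h2', h1]
    · rw [e, ← hmul hn1 hn1] at e1
      rw [h2']
      exact mul_left_cancel (mul_right_cancel (e1.symm.trans h1.symm))
  have hfcomm : ∀ {n q}, n ∈ A → q ∈ A → (commN v n q = true ↔ commN v (f n) (f q) = true) :=
    fun {n q} hn hq => by
      rw [X.commN_iff (hmemA.1 hn).1 (hmemA.1 hq).1, X.commN_iff (hmemA.1 (hf hn).1).1 (hmemA.1 (hf hq).1).1]
      constructor
      · intro hc
        refine Subtype.ext ?_
        show X.elG (f n) * X.elG (f q) = X.elG (f q) * X.elG (f n)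
        rw [(hf hn).2, (hf hq).2]
        have hc' : Commute (X.elG n) (X.elG q) := congrArg Subtype.val hc.eq
        exact (hc'.map (MulAut.conj h).toMonoidHom).eq
      · intro hc
        refine Subtype.ext ?_
        have hc' : Commute (X.elG (f n)) (X.elG (f q)) := congrArg Subtype.val hc.eq
        rw [(hf hn).2, (hf hq).2] at hc'
        show X.elG n * X.elG q = X.elG q * X.elG n
        have := hc'.map (MulAut.conj h⁻¹).toMonoidHom
        simpa [mul_assoc, Commute, SemiconjBy] using this
  rw [weight_eq v hnd, weight_eq v hnd]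
  refine Finset.sum_bij (fun a _ => f a) (fun a ha => ?_) (fun a ha b hb e => ?_) (fun b hb => ?_) (fun a ha => ?_)
  · rw [Finset.mem_filter, List.mem_toFinset] at ha ⊢
    exact ⟨(hf ha.1).1, (hfsq ha.1).1 ha.2⟩
  · rw [Finset.mem_filter, List.mem_toFinset] at ha hb
    exact hfinj a ha.1 b hb.1 e
  · rw [Finset.mem_filter] at hb
    obtain ⟨a, ha, rfl⟩ := hfsurj (Finset.mem_coe.2 hb.1)
    rw [Finset.mem_coe] at ha
    exact ⟨a, Finset.mem_filter.2 ⟨ha, (hfsq (List.mem_toFinset.1 ha)).2 hb.2⟩, rfl⟩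
  · rw [Finset.mem_filter, List.mem_toFinset] at ha
    refine Finset.card_bij (fun q _ => f q) (fun q hq => ?_) (fun q hq r hr e => ?_) (fun b hb => ?_)
    · rw [Finset.mem_filter, List.mem_toFinset] at hq ⊢
      exact ⟨(hf hq.1).1, (hfcomm ha.1 hq.1).1 hq.2⟩
    · rw [Finset.mem_filter, List.mem_toFinset] at hq hr
      exact hfinj q hq.1 r hr.1 e
    · rw [Finset.mem_filter] at hb
      obtain ⟨q, hq, rfl⟩ := hfsurj (Finset.mem_coe.2 hb.1)
      rw [Finset.mem_coe] at hq
      exact ⟨q, Finset.mem_filter.2 ⟨hq, (hfcomm ha.1 (List.mem_toFinset.1 hq)).2 hb.2⟩, rfl⟩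

omit [M.Normal] in
/-- The centraliser follows the codes of a variant of O'Nan type, and an element of the group exchanges the central
involution `2` with the involution `64`. -/
theorem exists_on_model (t : G) (ht : orderOf t = 2) (M : Subgroup (Subgroup.centralizer ({t} : Set G))) [M.Normal]
    (hM : M.index = 2) (hout : Subgroup.centralizer (M : Set (Subgroup.centralizer ({t} : Set G))) ≤ M)
    (hZc : IsCyclic (Subgroup.center M)) (hZ4 : Nat.card (Subgroup.center M) = 4) (hperf : commutator M = ⊤)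
    (hF : Fintype.card F = 4)
    (e : M ⧸ Subgroup.center M ≃* Matrix.ProjectiveSpecialLinearGroup (Fin 3) F) :
    ∃ (W : Frame F) (v : Var) (X : Model v W M), Good X ∧ isON v = true ∧ X.elG 2 = t ∧
      ∃ h : G, h * t * h⁻¹ = X.elG 64 ∧ h * X.elG 64 * h⁻¹ = t := by
  have : CharP F 2 := charP_of_card_eq_prime_pow (f := 2) (by rw [hF]; norm_num)
  obtain ⟨W, ⟨K⟩⟩ := exists_coords hF M hM hout hZc hZ4 hperf e
  obtain ⟨v, hv, X, -⟩ := exists_model K
  have hX : Good X := Good.of_hyps hF hv hM hZ4 e
  have hne : ∃ a b : M, a * b ≠ b * a := by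
    by_contra hc
    push Not at hc
    have htop : Subgroup.center M = ⊤ := eq_top_iff.2 fun x _ => Subgroup.mem_center_iff.2 fun y => hc y x
    have hbot : commutator M = ⊥ := (commutator_eq_bot_iff_center_eq_top (G := M)).2 htop
    rw [hperf] at hbot
    have h1 := congrArg (fun S : Subgroup M => Nat.card S) htop
    have h2 := congrArg (fun S : Subgroup M => Nat.card S) hbot
    simp only [Subgroup.card_top, Subgroup.card_bot, hZ4] at h1 h2
    omega
  obtain ⟨h, h1, h2⟩ := hX.exists_swap ht hout hne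
  exact ⟨W, v, X, hX, hX.isON_of_swap ht hout h1 h2, congrArg Subtype.val (hX.el_two_eq ht hout), h, h1, h2⟩

end Cfsg.Agent.L34Fusion
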