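import Cfsg.Agent.Lib.L34Fusion.Interp
import Cfsg.Agent.Lib.L34Mult.OddBound

/-!
A group that follows the codes of a variant: its involutions and the centraliser of an inner one.
-/

set_option autoImplicit false
set_option linter.unusedSectionVars false
set_option maxRecDepth 100000

namespace Cfsg.Agent.L34Fusion

open Cfsg.Agent.L34Mult Cfsg.Agent.L34Univ Cfsg.Agent.AutPSL.Roots Cfsg.Agent.AutPSL.Basic
open Cfsg.Agent.Perm.L34Cover

universe u w

theorem beq_iff {a b : ℕ} : Nat.beq a b = true ↔ a = b :=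
  ⟨Nat.eq_of_beq_eq_true, fun h => h ▸ Nat.beq_refl a⟩

theorem act_all : variants.all (fun v => Nat.beq (act v 64) 64 && Nat.beq (act v 1) v.eps) = true := by
  decide +kernel

theorem lt_odd_all : variants.all (fun v => (List.range 4).any (fun a => Nat.beq (lt v a % 2) 1)) = true := by
  decide +kernel

theorem mulN_lt {F : Type u} [Field F] [Fintype F] {W : Frame F} {C : Type w} [Group C] {M : Subgroup C} {v : Var}
    (X : Model v W M) {p q : ℕ} (hq : q < 512) : mulN v p q < 512 := by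
  have h2 : Nat.shiftRight q 8 < 2 := by rw [shiftRight_div]; omega
  unfold mulN
  cases Nat.beq (Nat.shiftRight p 8) 0 <;> cases Nat.beq (Nat.shiftRight q 8) 0 <;>
    simp only [cond_true, cond_false]
  · exact (X.mulI_lt _ _ _ (by norm_num)).1
  · exact (X.mulI_lt _ _ _ (by norm_num)).1
  · exact (X.mulI_lt _ _ _ h2).1
  · exact (X.mulI_lt _ _ _ h2).1

variable {F : Type u} [Field F] [Fintype F] {W : Frame F}

/-- The centraliser of a long root element is unitriangular. -/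
theorem mem_unitri_of_commute (hF : Fintype.card F = 4) {q : Matrix.ProjectiveSpecialLinearGroup (Fin 3) F}
    (h : Commute q (p13 1)) : q ∈ unitri (n := 3) (F := F) := by
  obtain ⟨s, rfl⟩ := QuotientGroup.mk_surjective q
  have h' : (QuotientGroup.mk (rowE 0 1 * s) : Matrix.ProjectiveSpecialLinearGroup (Fin 3) F) =
      QuotientGroup.mk (s * rowE 0 1) := by
    rw [QuotientGroup.mk_mul, QuotientGroup.mk_mul]; exact h.eq.symm
  obtain ⟨c, hc⟩ := (mk_eq_mk_iff _ _).1 h'
  have e : ∀ i j, ((s * rowE 0 1 : Matrix.SpecialLinearGroup (Fin 3) F) : Matrix (Fin 3) (Fin 3) F) i j =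
      c * ((rowE 0 1 * s : Matrix.SpecialLinearGroup (Fin 3) F) : Matrix (Fin 3) (Fin 3) F) i j := fun i j => by
    rw [hc]; rfl
  set m : Matrix (Fin 3) (Fin 3) F := (s : Matrix (Fin 3) (Fin 3) F) with hm
  have e00 := e 0 0; have e10 := e 1 0; have e20 := e 2 0
  have e01 := e 0 1; have e12 := e 1 2; have e02 := e 0 2
  simp [Matrix.SpecialLinearGroup.coe_mul, Matrix.mul_apply, Fin.sum_univ_three, rowE_coe, ← hm]
    at e00 e10 e20 e01 e12 e02
  have hdet : m.det = 1 := s.2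
  rw [Matrix.det_fin_three] at hdet
  have hc1 : c = 1 := by
    by_contra hne
    have hk : c - 1 ≠ 0 := sub_ne_zero.2 hne
    have h1 : m 1 0 = 0 := (mul_eq_zero.1 (show (c - 1) * m 1 0 = 0 by linear_combination -e10)).resolve_left hk
    have h2 : m 2 0 = 0 := (mul_eq_zero.1 (show (c - 1) * m 2 0 = 0 by linear_combination -e20)).resolve_left hk
    rw [h2] at e00
    have h0 : m 0 0 = 0 := (mul_eq_zero.1 (show (c - 1) * m 0 0 = 0 by linear_combination -e00)).resolve_left hk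
    rw [h0, h1, h2] at hdet
    simp at hdet
  subst hc1
  have h20 : m 2 0 = 0 := by linear_combination -e00
  have h21 : m 2 1 = 0 := by linear_combination -e01
  have h10 : m 1 0 = 0 := by linear_combination e12
  have h22 : m 2 2 = m 0 0 := by linear_combination -e02
  rw [h20, h21, h10, h22] at hdet
  have hd : m 0 0 ^ 2 * m 1 1 = 1 := by linear_combination hdet
  set l := m 0 0 with hl
  have hl0 : l ≠ 0 := fun h => by rw [h] at hd; simp at hd
  have h3 : l ^ 3 = 1 := by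
    have h := FiniteField.pow_card_sub_one_eq_one l hl0
    rwa [hF] at h
  have h11 : m 1 1 = l := by linear_combination l * hd - m 1 1 * h3
  let s' : Matrix.SpecialLinearGroup (Fin 3) F :=
    ⟨!![1, l⁻¹ * m 0 1, l⁻¹ * m 0 2; 0, 1, l⁻¹ * m 1 2; 0, 0, 1], by simp [Matrix.det_fin_three]⟩
  refine ⟨s', ⟨fun i j hij => ?_, fun i => ?_⟩, (mk_eq_mk_iff _ _).2 ⟨l, ?_⟩⟩
  · fin_cases i <;> fin_cases j <;> first | rfl | exact absurd hij (by decide)
  · fin_cases i <;> rfl
  · rw [← hm]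
    ext i j
    fin_cases i <;> fin_cases j <;> simp [s', hl0, h20, h21, h10, h22, h11, ← hl]

variable {v : Var} {C : Type w} [Group C] {M : Subgroup C}

/-- What is used about a group that follows the codes of a variant. -/
structure Good (X : Model v W M) : Prop where
  hF : Fintype.card F = 4
  mem_variants : v ∈ variants
  index_two : M.index = 2
  card : Nat.card C = 161280
  ker : ∀ k : M, X.φ k = 1 → ∃ j : ℕ, X.z ^ j = k

variable {X : Model v W M}

theorem Good.of_hyps [Finite C] (hF : Fintype.card F = 4) (hv : v ∈ variants) (hM : M.index = 2)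
    (hZ4 : Nat.card (Subgroup.center M) = 4)
    (e : M ⧸ Subgroup.center M ≃* Matrix.ProjectiveSpecialLinearGroup (Fin 3) F) : Good X := by
  refine ⟨hF, hv, hM, ?_, fun k hk => ?_⟩
  · rw [← M.card_mul_index, hM, Subgroup.card_eq_card_quotient_mul_card_subgroup (Subgroup.center M), hZ4,
      Nat.card_congr e.toEquiv, card_psl hF]
  · have hker := ker_eq_center X.D.surjective X.D.central
    have hle : Subgroup.zpowers X.z ≤ Subgroup.center M := Subgroup.zpowers_le.2 ((hker _).1 X.z_map)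
    have heq := Subgroup.eq_of_le_of_card_ge hle (by rw [hZ4, Nat.card_zpowers, X.orderOf_z])
    have hk' : k ∈ Subgroup.zpowers X.z := heq ▸ (hker _).1 hk
    obtain ⟨j, hj⟩ := mem_powers_iff_mem_zpowers.2 hk'
    exact ⟨j, hj⟩

theorem Model.el_of_lt (X : Model v W M) {n : ℕ} (h : n < 256) : X.el n = ((inn X.D X.z n : M) : C) := by
  rw [Model.el, shiftRight_div, land_mask, Nat.mod_eq_of_lt h, Nat.div_eq_of_lt (by omega), pow_zero, mul_one]

theorem Model.el_add (X : Model v W M) {n : ℕ} (h : n < 256) : X.el (256 + n) = X.el n * X.g := by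
  rw [X.el_of_lt h, Model.el, shiftRight_div, land_mask, show (256 + n) % 256 = n by omega,
    show (256 + n) / 2 ^ 8 = 1 by omega, pow_one]

theorem Model.el_mem_iff (X : Model v W M) {n : ℕ} (hn : n < 512) : X.el n ∈ M ↔ n < 256 := by
  refine ⟨fun h => ?_, fun h => by rw [X.el_of_lt h]; exact SetLike.coe_mem _⟩
  by_contra hc
  obtain ⟨k, rfl⟩ := Nat.exists_eq_add_of_le (le_of_not_gt hc)
  rw [X.el_add (by omega), X.el_of_lt (by omega)] at h
  exact X.g_notMem ((M.mul_mem_cancel_left (SetLike.coe_mem _)).1 h)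

theorem Model.el_one (X : Model v W M) : X.el 1 = (X.z : C) := by
  rw [X.el_of_lt (by norm_num), show 1 = enc 1 0 0 0 0 from rfl,
    X.inn_enc (by norm_num) (by norm_num) (by norm_num), pow_one]
  simp [fe, show X.D.x 0 = 1 from X.D.lift_zero _, show X.D.y 0 = 1 from X.D.lift_zero _,
    show X.D.z 0 = 1 from X.D.lift_zero _]

theorem Model.el_eq_iff (X : Model v W M) {p q : ℕ} (hp : p < 512) (hq : q < 512) : X.el p = X.el q ↔ p = q :=
  ⟨X.el_injective hp hq, fun h => h ▸ rfl⟩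

theorem Model.commN_iff (X : Model v W M) {p q : ℕ} (hp : p < 512) (hq : q < 512) :
    commN v p q = true ↔ Commute (X.el p) (X.el q) := by
  rw [commN, beq_iff, ← X.el_eq_iff (mulN_lt X hq) (mulN_lt X hp), X.el_mul hp hq, X.el_mul hq hp]
  rfl

theorem Good.exists_inn (hX : Good X) (m : M) (hm : X.φ m ∈ unitri (n := 3) (F := F)) :
    ∃ n, n < 256 ∧ inn X.D X.z n = m := by
  obtain ⟨s, hs, hsm⟩ := hm
  set a := (s : Matrix (Fin 3) (Fin 3) F) 0 1
  set b := (s : Matrix (Fin 3) (Fin 3) F) 1 2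
  set c := (s : Matrix (Fin 3) (Fin 3) F) 0 2
  obtain ⟨na, hna, hfa⟩ := exists_fe W a
  obtain ⟨nb, hnb, hfb⟩ := exists_fe W b
  obtain ⟨nc, hnc, hfc⟩ := exists_fe W c
  set r := X.D.x a * X.D.y b * X.D.z (c + a * b) with hr
  have hmap : X.φ r = X.φ m := by
    rw [← hsm, hr, map_mul, map_mul, X.D.map_x, X.D.map_y, X.D.map_z, p12, p23, p13, ← QuotientGroup.mk_mul,
      ← QuotientGroup.mk_mul]
    refine congrArg QuotientGroup.mk (Subtype.ext ?_)
    ext i j
    have h1 := hs.1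
    have h2 := hs.2
    fin_cases i <;> fin_cases j <;>
      simp [rowE_coe, colE_coe, Matrix.SpecialLinearGroup.coe_mul, Matrix.mul_apply, Fin.sum_univ_three, a, b, c,
        h1, h2]
    linear_combination (s : Matrix (Fin 3) (Fin 3) F) 0 1 * (s : Matrix (Fin 3) (Fin 3) F) 1 2 * W.two
  obtain ⟨j, hj⟩ := hX.ker (m * r⁻¹) (by rw [map_mul, map_inv, hmap, mul_inv_cancel])
  refine ⟨enc j na nb nc 0, by rw [enc_eq]; omega, ?_⟩
  rw [X.inn_enc hna hnb hnc, hfa, hfb, hfc, ← hr, hj, inv_mul_cancel_right]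

theorem Good.act_64 (hX : Good X) : act v 64 = 64 ∧ act v 1 = v.eps := by
  have h := List.all_eq_true.1 act_all v hX.mem_variants
  simpa [beq_iff] using h

theorem Good.g_commute (hX : Good X) : Commute X.g (X.el 64) := by
  have h := X.conj_inn 64 (by norm_num)
  rw [hX.act_64.1, ← X.el_of_lt (by norm_num), mul_inv_eq_iff_eq_mul] at h
  exact h

/-- The centraliser of the inner involution `64` consists of codes. -/
theorem Good.exists_el_of_commute (hX : Good X) {x : C} (hx : Commute x (X.el 64)) :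
    ∃ n, n < 512 ∧ X.el n = x := by
  have key : ∀ m : M, Commute (m : C) (X.el 64) → ∃ n, n < 256 ∧ X.el n = m := fun m hm => by
    have h : Commute (X.φ m) (p13 1) := by
      rw [← X.D.map_z]
      refine Commute.map (Subtype.ext ?_) X.φ
      rw [X.el_one'] at hm
      exact hm
    obtain ⟨n, hn, rfl⟩ := hX.exists_inn m (mem_unitri_of_commute hX.hF h)
    exact ⟨n, hn, X.el_of_lt hn⟩
  by_cases h : x ∈ M
  · obtain ⟨n, hn, h'⟩ := key ⟨x, h⟩ hx
    exact ⟨n, by omega, h'⟩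
  · have h1 : x * X.g⁻¹ ∈ M :=
      (Subgroup.mul_mem_iff_of_index_two hX.index_two).2 (iff_of_false h (by simpa using X.g_notMem))
    obtain ⟨n, hn, h'⟩ := key ⟨_, h1⟩ (hx.mul_left hX.g_commute.inv_left)
    refine ⟨256 + n, by omega, ?_⟩
    rw [X.el_add hn, h', inv_mul_cancel_right]

variable [Finite C]

/-- The subgroup of the codes. -/
def Model.syl (X : Model v W M) : Subgroup C where
  carrier := {x | ∃ n, n < 512 ∧ X.el n = x}
  one_mem' := ⟨0, by norm_num, X.el_zero⟩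
  mul_mem' := by
    rintro _ _ ⟨p, hp, rfl⟩ ⟨q, hq, rfl⟩
    exact ⟨_, mulN_lt X hq, X.el_mul hp hq⟩
  inv_mem' := by
    rintro x hx
    have hpow : ∀ k : ℕ, ∃ n, n < 512 ∧ X.el n = x ^ k := fun k => by
      induction k with
      | zero => exact ⟨0, by norm_num, by rw [X.el_zero, pow_zero]⟩
      | succ k ih =>
        obtain ⟨q, hq, hq'⟩ := ih
        obtain ⟨p, hp, rfl⟩ := hx
        exact ⟨_, mulN_lt X hp, by rw [X.el_mul hq hp, hq', pow_succ]⟩
    have h : x ^ (orderOf x - 1) = x⁻¹ := by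
      refine eq_inv_of_mul_eq_one_left ?_
      rw [← pow_succ, Nat.sub_add_cancel (orderOf_pos x), pow_orderOf_eq_one]
    exact h ▸ hpow (orderOf x - 1)

theorem Model.card_syl (X : Model v W M) : Nat.card X.syl = 512 := by
  let f : Fin 512 → X.syl := fun n => ⟨X.el n, n.1, n.2, rfl⟩
  have hf : Function.Bijective f :=
    ⟨fun p q h => Fin.ext (X.el_injective p.2 q.2 (congrArg Subtype.val h)),
      fun ⟨x, n, hn, hx⟩ => ⟨⟨n, hn⟩, Subtype.ext hx⟩⟩
  rw [← Nat.card_congr (Equiv.ofBijective f hf), Nat.card_eq_fintype_card, Fintype.card_fin]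

/-- A 2-subgroup can be conjugated into the codes. -/
theorem Good.exists_conj_el (hX : Good X) {P : Subgroup C} (hP : IsPGroup 2 P) :
    ∃ c : C, ∀ x ∈ P, ∃ n, n < 512 ∧ X.el n = c * x * c⁻¹ := by
  have : Fact (Nat.Prime 2) := ⟨Nat.prime_two⟩
  have hp : IsPGroup 2 X.syl := IsPGroup.of_card (n := 9) (by rw [X.card_syl]; norm_num)
  have hi : ¬ 2 ∣ X.syl.index := fun h => by
    have := X.syl.card_mul_index
    rw [X.card_syl, hX.card] at this
    omega
  obtain ⟨Q, hQ⟩ := hP.exists_le_sylow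
  obtain ⟨c, hc⟩ := MulAction.exists_smul_eq C Q (hp.toSylow hi)
  refine ⟨c, fun x hx => ?_⟩
  have h : c * x * c⁻¹ ∈ ((hp.toSylow hi : Sylow 2 C) : Subgroup C) := by
    rw [← hc]; exact ⟨x, hQ hx, rfl⟩
  exact h

theorem zpowers_two {x : C} (h : x * x = 1) : IsPGroup 2 (Subgroup.zpowers x) := by
  rintro ⟨y, hy⟩
  obtain ⟨k, rfl⟩ := hy
  exact ⟨1, Subtype.ext (by
    change (x ^ k) ^ (2 ^ 1) = 1
    rw [pow_one, pow_two, ← (Commute.refl x).mul_zpow, h, one_zpow])⟩

/-- Two commuting involutions can be conjugated into the codes together. -/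
theorem Good.exists_conj_pair (hX : Good X) {x y : C} (hx : x * x = 1) (hy : y * y = 1) (hxy : Commute x y) :
    ∃ c : C, ∃ p q, p < 512 ∧ q < 512 ∧ X.el p = c * x * c⁻¹ ∧ X.el q = c * y * c⁻¹ := by
  have hn : Subgroup.zpowers x ≤ Subgroup.normalizer ((Subgroup.zpowers y : Subgroup C) : Set C) := fun s hs => by
    obtain ⟨i, rfl⟩ := hs
    refine Subgroup.centralizer_le_normalizer _ (Subgroup.mem_centralizer_iff.2 fun d hd => ?_)
    obtain ⟨j, rfl⟩ := hd
    exact (hxy.symm.zpow_zpow j i).eq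
  obtain ⟨c, hc⟩ := hX.exists_conj_el ((zpowers_two hx).to_sup_of_normal_right' (zpowers_two hy) hn)
  obtain ⟨p, hp, hp'⟩ := hc x (Subgroup.mem_sup_left (Subgroup.mem_zpowers x))
  obtain ⟨q, hq, hq'⟩ := hc y (Subgroup.mem_sup_right (Subgroup.mem_zpowers y))
  exact ⟨c, p, q, hp, hq, hp', hq'⟩

theorem Good.sq_code (hX : Good X) {n : ℕ} (hn : n < 512) {c x : C} (hx : x * x = 1)
    (e : X.el n = c * x * c⁻¹) : mulN v n n = 0 := by
  rw [← X.el_eq_iff (mulN_lt X hn) (by norm_num), X.el_mul hn hn, X.el_zero, e]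
  calc c * x * c⁻¹ * (c * x * c⁻¹) = c * (x * x) * c⁻¹ := by group
    _ = 1 := by rw [hx, mul_one, mul_inv_cancel]

variable [M.Normal]

theorem Good.conj_mem_iff (hX : Good X) (c x : C) : c * x * c⁻¹ ∈ M ↔ x ∈ M := by
  refine ⟨fun h => ?_, fun h => Subgroup.Normal.conj_mem inferInstance x h c⟩
  simpa [mul_assoc] using Subgroup.Normal.conj_mem (inferInstance : M.Normal) _ h c⁻¹

/-- A code of an outer involution. -/
theorem Good.mem_outInv (hX : Good X) {n : ℕ} (hn : n < 512) {c x : C} (hx : x * x = 1) (hM : x ∉ M)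
    (e : X.el n = c * x * c⁻¹) : n ∈ outInv v := by
  have h : ¬ n < 256 := fun h => hM ((hX.conj_mem_iff c x).1 (e ▸ (X.el_mem_iff hn).2 h))
  rw [outInv, List.mem_filter, List.mem_map]
  refine ⟨⟨n - 256, List.mem_range.2 (by omega), ?_⟩, beq_iff.2 (hX.sq_code hn hx e)⟩
  show 256 + (n - 256) = n
  omega

/-- In the variants with a trivial action on the centre an outer involution commutes with the generator of it. -/
theorem Good.commute_z (hX : Good X) (he : v.eps = 1) {y : C} (hM : y ∉ M) : Commute y (X.z : C) := by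
  have h := X.conj_inn 1 (by norm_num)
  rw [hX.act_64.2, he, ← X.el_of_lt (by norm_num), X.el_one, mul_inv_eq_iff_eq_mul] at h
  have h1 : y * X.g⁻¹ ∈ M :=
    (Subgroup.mul_mem_iff_of_index_two hX.index_two).2 (iff_of_false hM (by simpa using X.g_notMem))
  have h2 : Commute (y * X.g⁻¹) (X.z : C) := congrArg Subtype.val (X.z_central ⟨_, h1⟩).eq
  simpa using h2.mul_left (show Commute X.g (X.z : C) from h)

theorem Good.checkFus_of (hX : Good X) (he : v.eps ≠ 1) : checkFus v = true := by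
  have h := List.all_eq_true.1 checkFus_all v hX.mem_variants
  simpa [beq_iff, he] using h

/-- An outer involution commutes with an inner one. -/
theorem Good.exists_comm_inner (hX : Good X) (he : v.eps ≠ 1) {y : C} (hy : y * y = 1) (hM : y ∉ M)
    (hcen : ∀ c : C, Commute c (X.el 2)) :
    ∃ u : C, u ∈ M ∧ u * u = 1 ∧ u ≠ 1 ∧ u ≠ X.el 2 ∧ Commute u y := by
  obtain ⟨c, hc⟩ := hX.exists_conj_el (zpowers_two hy)
  obtain ⟨n, hn, e⟩ := hc y (Subgroup.mem_zpowers y)
  have h := List.all_eq_true.1 (hX.checkFus_of he) n (hX.mem_outInv hn hy hM e)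
  rw [Bool.and_eq_true, List.any_eq_true] at h
  obtain ⟨⟨u, hu, hun⟩, -⟩ := h
  rw [inInv, List.mem_filter, List.mem_range] at hu
  obtain ⟨hu256, hu'⟩ := hu
  simp only [Bool.and_eq_true, Bool.not_eq_true', beq_iff] at hu'
  obtain ⟨⟨hu0, hu2⟩, huu⟩ := hu'
  have h0 : u ≠ 0 := fun h => by simp [h] at hu0
  have h2 : u ≠ 2 := fun h => by simp [h] at hu2
  refine ⟨c⁻¹ * X.el u * c, ?_, ?_, ?_, ?_, ?_⟩
  · simpa using (hX.conj_mem_iff c⁻¹ _).2 ((X.el_mem_iff (by omega)).2 hu256)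
  · calc c⁻¹ * X.el u * c * (c⁻¹ * X.el u * c) = c⁻¹ * (X.el u * X.el u) * c := by group
      _ = 1 := by rw [← X.el_mul (by omega) (by omega), huu, X.el_zero]; group
  · intro h
    refine h0 (X.el_injective (q := 0) (by omega) (by norm_num) ?_)
    rw [X.el_zero, ← mul_inv_cancel c]
    calc X.el u = c * (c⁻¹ * X.el u * c) * c⁻¹ := by group
      _ = c * 1 * c⁻¹ := by rw [h]
      _ = c * c⁻¹ := by group
  · intro h
    refine h2 (X.el_injective (q := 2) (by omega) (by norm_num) ?_)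
    calc X.el u = c * (c⁻¹ * X.el u * c) * c⁻¹ := by group
      _ = X.el 2 := by rw [h, (hcen c).eq, mul_inv_cancel_right]
  · have hu : Commute (X.el u) (X.el n) := (X.commN_iff (by omega) hn).1 hun
    rw [e] at hu
    have := hu.map (MulAut.conj c⁻¹).toMonoidHom
    simpa [mul_assoc] using this

/-- Fusion of outer involutions. -/
theorem Good.conj_outer (hX : Good X) (he : v.eps ≠ 1) {y u : C} (hy : y * y = 1) (hM : y ∉ M) (hu : u * u = 1)
    (huM : u ∈ M) (hu1 : u ≠ 1) (hu2 : u ≠ X.el 2) (huy : Commute u y) (hcen : ∀ c : C, Commute c (X.el 2)) :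
    IsConj y (u * y) := by
  obtain ⟨c, p, q, hp, hq, ep, eq⟩ := hX.exists_conj_pair hu hy huy
  have hqo := hX.mem_outInv hq hy hM eq
  have hp256 : p < 256 := (X.el_mem_iff hp).1 (ep ▸ (hX.conj_mem_iff c u).2 huM)
  have hpi : p ∈ inInv v := by
    rw [inInv, List.mem_filter, List.mem_range]
    refine ⟨hp256, ?_⟩
    simp only [Bool.and_eq_true, Bool.not_eq_true', beq_iff, Bool.eq_false_iff, ne_eq]
    refine ⟨⟨fun h => hu1 ?_, fun h => hu2 ?_⟩, hX.sq_code hp hu ep⟩
    · rw [h, X.el_zero] at ep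
      simpa using ep.symm
    · rw [h] at ep
      calc u = c⁻¹ * (c * u * c⁻¹) * c := by group
        _ = X.el 2 := by rw [← ep, (hcen c⁻¹).eq, inv_mul_cancel_right]
  have h := List.all_eq_true.1 (hX.checkFus_of he) q hqo
  rw [Bool.and_eq_true, List.all_eq_true] at h
  have h' := h.2 p hpi
  have hpq : commN v p q = true := (X.commN_iff hp hq).2 (by
    rw [ep, eq]; exact huy.map (MulAut.conj c).toMonoidHom)
  rw [hpq, Bool.not_true, Bool.false_or, List.any_eq_true] at h'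
  obtain ⟨d, hd, hdq⟩ := h'
  have hd512 : d < 512 := (show ∀ d ∈ wits, d < 512 by decide) d hd
  have h5 : X.el d * X.el q = X.el p * X.el q * X.el d := by
    rw [← X.el_mul hd512 hq, beq_iff.1 hdq, X.el_mul (mulN_lt X hq) hd512, X.el_mul hp hq]
  rw [ep, eq] at h5
  refine isConj_iff.2 ⟨c⁻¹ * X.el d * c, ?_⟩
  calc c⁻¹ * X.el d * c * y * (c⁻¹ * X.el d * c)⁻¹
      = c⁻¹ * (X.el d * (c * y * c⁻¹)) * (X.el d)⁻¹ * c := by group
    _ = u * y := by rw [h5]; group

omit [Finite C] in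
/-- The two lifts of a long root involution are conjugate. -/
theorem Good.exists_swap_sign (hX : Good X) :
    ∃ m : M, m * (X.z ^ 2 * X.D.z 1) * m⁻¹ = X.D.z 1 := by
  have h := List.all_eq_true.1 lt_odd_all v hX.mem_variants
  rw [List.any_eq_true] at h
  obtain ⟨a, ha, hodd⟩ := h
  rw [List.mem_range] at ha
  rw [beq_iff] at hodd
  refine ⟨X.D.x (fe W a), ?_⟩
  have h1 := X.D.conj_z_x (fe W a) 1
  rw [mul_one, ← X.D.iota_dbl, X.iota_dbl ha, ← X.pow_mod, show 2 * lt v a % 4 = 2 by omega] at h1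
  have hc : Commute (X.z ^ 2) (X.D.x (fe W a)) := (((X.z_central _).pow_right 2)).symm
  rw [show (X.D.x (fe W a))⁻¹ = X.D.x (fe W a) from X.D.lift_inv _ _, ← mul_assoc, ← hc.eq, mul_assoc, mul_assoc,
    ← mul_assoc (X.D.x _), h1, ← mul_assoc, ← pow_add, show 2 + 2 = orderOf X.z from X.orderOf_z.symm,
    pow_orderOf_eq_one, one_mul]

/-- The inner involutions other than the central one form one class. -/
theorem Good.exists_conj_z1 (hX : Good X) [CharP F 2] {u : M} (hu : u * u = 1) (h1 : u ≠ 1) (h2 : u ≠ X.z ^ 2) :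
    ∃ m : M, m * u * m⁻¹ = X.D.z 1 := by
  have : Fact (Nat.Prime 2) := ⟨Nat.prime_two⟩
  have hcase : ∀ k : M, X.φ k = 1 → k * k = 1 → k = 1 ∨ k = X.z ^ 2 := fun k hk hk2 => by
    obtain ⟨j, rfl⟩ := hX.ker k hk
    rw [← pow_add, ← orderOf_dvd_iff_pow_eq_one, X.orderOf_z] at hk2
    rw [← X.pow_mod]
    rcases (show j % 4 = 0 ∨ j % 4 = 2 by omega) with e | e <;> rw [e]
    · exact Or.inl (pow_zero _)
    · exact Or.inr rfl
  have hne : X.φ u ≠ 1 := fun h => (hcase u h hu).elim h1 h2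
  obtain ⟨P, hP⟩ := exists_sylow_eq (n := 3) (F := F) 2 (by norm_num)
  have hsq : X.φ u * X.φ u = 1 := by rw [← map_mul, hu, map_one]
  obtain ⟨Q, hQ⟩ := (zpowers_two hsq).exists_le_sylow
  obtain ⟨g, hg⟩ := MulAction.exists_smul_eq (Matrix.ProjectiveSpecialLinearGroup (Fin 3) F) Q P
  have hmem : g * X.φ u * g⁻¹ ∈ unitri (n := 3) (F := F) := by
    rw [← hP, ← hg]; exact ⟨_, hQ (Subgroup.mem_zpowers _), rfl⟩
  have hgne : g * X.φ u * g⁻¹ ≠ 1 := fun h => hne (by simpa using h)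
  have hrow : (p13 1 : Matrix.ProjectiveSpecialLinearGroup (Fin 3) F) ∈ rowG := mem_rowG.2 ⟨0, 1, rfl⟩
  have hcol : (p13 1 : Matrix.ProjectiveSpecialLinearGroup (Fin 3) F) ∈ colG := mem_colG.2 ⟨0, 1, rfl⟩
  have hp1 : (p13 1 : Matrix.ProjectiveSpecialLinearGroup (Fin 3) F) ≠ 1 := fun h => one_ne_zero (mk_row_eq_one h).2
  obtain ⟨d, hd⟩ : ∃ d, d * (g * X.φ u * g⁻¹) * d⁻¹ = p13 1 := by
    rcases involution_mem hmem (by
      calc g * X.φ u * g⁻¹ * (g * X.φ u * g⁻¹) = g * (X.φ u * X.φ u) * g⁻¹ := by group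
        _ = 1 := by rw [hsq, mul_one, mul_inv_cancel]) with h | h
    · obtain ⟨d, -, hd⟩ := (nice_row hX.hF).2.2.2.1 _ h _ hrow hgne hp1
      exact ⟨d, hd⟩
    · obtain ⟨d, -, hd⟩ := (nice_col hX.hF).2.2.2.1 _ h _ hcol hgne hp1
      exact ⟨d, hd⟩
  obtain ⟨m, hm⟩ := X.D.surjective (d * g)
  have hk : X.φ (m * u * m⁻¹ * X.D.z 1) = 1 := by
    rw [map_mul, map_mul, map_mul, map_inv, hm, X.D.map_z]
    calc d * g * X.φ u * (d * g)⁻¹ * p13 1 = d * (g * X.φ u * g⁻¹) * d⁻¹ * p13 1 := by group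
      _ = 1 := by rw [hd, ← X.D.map_z, ← map_mul, show X.D.z 1 * X.D.z 1 = 1 from X.D.lift_sq _ _, map_one]
  have hc := X.D.central' hk (X.D.z 1)
  have hk2 : m * u * m⁻¹ * X.D.z 1 * (m * u * m⁻¹ * X.D.z 1) = 1 := by
    rw [mul_assoc (m * u * m⁻¹) (X.D.z 1), hc.eq, mul_assoc _ (X.D.z 1) (X.D.z 1),
      show X.D.z 1 * X.D.z 1 = 1 from X.D.lift_sq _ _, mul_one]
    calc m * u * m⁻¹ * (m * u * m⁻¹) = m * (u * u) * m⁻¹ := by group
      _ = 1 := by rw [hu, mul_one, mul_inv_cancel]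
  have hback : m * u * m⁻¹ = m * u * m⁻¹ * X.D.z 1 * X.D.z 1 := by
    rw [mul_assoc _ (X.D.z 1), show X.D.z 1 * X.D.z 1 = 1 from X.D.lift_sq _ _, mul_one]
  rcases hcase _ hk hk2 with e | e
  · exact ⟨m, by rw [hback, e, one_mul]⟩
  · obtain ⟨m', hm'⟩ := hX.exists_swap_sign
    refine ⟨m' * m, ?_⟩
    calc m' * m * u * (m' * m)⁻¹ = m' * (m * u * m⁻¹) * m'⁻¹ := by group
      _ = X.D.z 1 := by rw [hback, e, hm']

end Cfsg.Agent.L34Fusion
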