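import Cfsg.Agent.Lib.L34Fusion.Arith
import Cfsg.Agent.Lib.L34Univ.Sylow

/-!
The codes realised in a group with coordinates.
-/

set_option autoImplicit false
set_option linter.unusedSectionVars false

namespace Cfsg.Agent.L34Fusion

open Cfsg.Agent.L34Mult Cfsg.Agent.L34Univ Cfsg.Agent.AutPSL.Roots Cfsg.Agent.Perm.L34Cover

universe u w

variable {F : Type u} [Field F] [Fintype F] {W : Frame F}

/-- The element of an inner code. -/
noncomputable def inn {M : Type w} [Group M] {φ : M →* Matrix.ProjectiveSpecialLinearGroup (Fin 3) F}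
    (D : Ctx W φ) (z : M) (n : ℕ) : M :=
  z ^ Nat.land n 3 *
    (D.x (fe W (cA n)) * D.y (fe W (cB n)) * D.z (fe W (cE n) + fe W (cA n) * fe W (cB n)))

/-- A group with coordinates that follow the codes of a variant. -/
structure Model (v : Var) (W : Frame F) {C : Type w} [Group C] (M : Subgroup C) where
  φ : M →* Matrix.ProjectiveSpecialLinearGroup (Fin 3) F
  D : Ctx W φ
  g : C
  z : M
  g_notMem : g ∉ M
  orderOf_z : orderOf z = 4
  z_map : φ z = 1
  iota_eq : ∀ c : Coef, D.iota c = z ^ (v.a * c.1.val + v.b * c.2.val)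
  unit : ∃ c : Coef, (v.a : ZMod 4) * c.1 + (v.b : ZMod 4) * c.2 = 1
  g_sq : g * g = (z : C) ^ v.k
  conj_inn : ∀ n < 256, g * ((inn D z n : M) : C) * g⁻¹ = ((inn D z (act v n) : M) : C)

variable {v : Var} {C : Type w} [Group C] {M : Subgroup C} (X : Model v W M)
include X

/-- The element of a code. -/
noncomputable def Model.el (n : ℕ) : C := ((inn X.D X.z (Nat.land n 255) : M) : C) * X.g ^ Nat.shiftRight n 8

theorem Model.pow_mod (n : ℕ) : X.z ^ (n % 4) = X.z ^ n := by rw [← X.orderOf_z, pow_mod_orderOf]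

theorem Model.z_central (g : M) : Commute g X.z := X.D.central' X.z_map g

theorem Model.iota_lt {a : ℕ} (ha : a < 4) : X.D.iota (W.teich (fe W a)) = X.z ^ lt v a := by
  rw [X.iota_eq, teich_fe W ha, ZMod.val_natCast, ZMod.val_natCast, lt, ← X.pow_mod]
  congr 1
  rw [land_three, land_three]
  simp only [Nat.mod_mod]
  rfl

theorem Model.iota_dbl {a : ℕ} (ha : a < 4) : X.D.iota (W.dbl (fe W a)) = X.z ^ (2 * lt v a) := by
  rw [Frame.dbl, X.D.iota_add, X.iota_lt ha, ← pow_add, two_mul]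

theorem Model.iota_val {a b e x y : ℕ} (ha : a < 4) (hb : b < 4) (he : e < 4) (hx : x < 4) (hy : y < 4) :
    X.D.iota (W.val (fe W a) (fe W b) (fe W e) (fe W x) (fe W y)) = X.z ^ valZ v a b e x y := by
  have hq := xor_lt he (fmul_lt a b)
  rw [valZ, Frame.val, X.D.iota_add, show Nat.add (lt v (fmul (fsq x) b))
    (Nat.mul 2 (lt v (Nat.xor (fmul x (Nat.xor e (fmul a b)))
      (fmul (fsq y) (fsq (Nat.xor (Nat.xor e (fmul a b)) (fmul x b))))))) = lt v (fmul (fsq x) b) +
    2 * lt v (Nat.xor (fmul x (Nat.xor e (fmul a b)))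
      (fmul (fsq y) (fsq (Nat.xor (Nat.xor e (fmul a b)) (fmul x b))))) from rfl, pow_add,
    ← X.iota_lt (fmul_lt _ _), ← X.iota_dbl (xor_lt (fmul_lt _ _) (fmul_lt _ _)),
    fe_fmul W (fsq_lt x) hb, fe_fsq W hx, fe_xor W (fmul_lt _ _) (fmul_lt _ _), fe_fmul W hx hq,
    fe_xor W he (fmul_lt a b), fe_fmul W ha hb, fe_fmul W (fsq_lt y) (fsq_lt _), fe_fsq W hy,
    fe_fsq W (xor_lt hq (fmul_lt _ _)), fe_xor W hq (fmul_lt _ _), fe_xor W he (fmul_lt a b), fe_fmul W ha hb,
    fe_fmul W hx hb]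
  simp only [pow_two]

theorem Model.exists_coef (n : ℕ) : ∃ c, X.D.iota c = X.z ^ n := by
  obtain ⟨c, hc⟩ := X.unit
  refine ⟨n • c, ?_⟩
  rw [X.iota_eq, ← X.pow_mod, ← X.pow_mod n]
  congr 1
  have h : ((v.a * (n • c).1.val + v.b * (n • c).2.val : ℕ) : ZMod 4) = (n : ZMod 4) := by
    simp only [Nat.cast_add, Nat.cast_mul, ZMod.natCast_zmod_val, nsmul_eq_mul, Prod.fst_mul, Prod.snd_mul, Prod.fst_natCast, Prod.snd_natCast]
    linear_combination (n : ZMod 4) * hc
  exact (ZMod.natCast_eq_natCast_iff' _ _ 4).1 h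

theorem Model.inn_enc {z a b e : ℕ} (ha : a < 4) (hb : b < 4) (he : e < 4) (i : ℕ) :
    inn X.D X.z (enc z a b e i) =
      X.z ^ z * (X.D.x (fe W a) * X.D.y (fe W b) * X.D.z (fe W e + fe W a * fe W b)) := by
  obtain ⟨h1, h2, h3, h4, -, -⟩ := enc_coords (z := z) (i := i) ha hb he
  rw [inn, h1, h2, h3, h4, X.pow_mod]

/-- Inner codes multiply as the inner elements. -/
theorem Model.inn_mul (p q k i : ℕ) :
    inn X.D X.z p * inn X.D X.z q * X.z ^ k = inn X.D X.z (mulI v p q k i) := by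
  obtain ⟨c, hc⟩ := X.exists_coef (Nat.land p 3)
  obtain ⟨c', hc'⟩ := X.exists_coef (Nat.land q 3)
  rw [mulI, X.inn_enc (xor_lt (cA_lt p) (cA_lt q)) (xor_lt (cB_lt p) (cB_lt q))
    (xor_lt (xor_lt (cE_lt p) (cE_lt q)) (fmul_lt _ _)), inn, inn, ← hc, ← hc', ← Ctx.nf, ← Ctx.nf, X.D.nf_mul,
    Ctx.nf, X.D.iota_add, X.D.iota_add, X.iota_val (cA_lt p) (cB_lt p) (cE_lt p) (cA_lt q) (cB_lt q), hc, hc',
    fe_xor W (xor_lt (cE_lt p) (cE_lt q)) (fmul_lt _ _), fe_xor W (cE_lt p) (cE_lt q),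
    fe_fmul W (cA_lt p) (cB_lt q), fe_xor W (cA_lt p) (cA_lt q), fe_xor W (cB_lt p) (cB_lt q)]
  simp only [Nat.add_eq, pow_add]
  rw [mul_assoc (X.z ^ Nat.land p 3 * X.z ^ Nat.land q 3), mul_assoc (X.z ^ Nat.land p 3 * X.z ^ Nat.land q 3),
    mul_assoc (X.z ^ valZ v _ _ _ _ _), ((X.z_central _).pow_right k).eq]
  simp only [mul_assoc]

theorem Model.mulI_lt (p q k : ℕ) {i : ℕ} (hi : i < 2) :
    mulI v p q k i < 512 ∧ Nat.shiftRight (mulI v p q k i) 8 = i ∧
      Nat.land (mulI v p q k i) 255 = mulI v p q k 0 := by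
  have ha := xor_lt (cA_lt p) (cA_lt q)
  have hb := xor_lt (cB_lt p) (cB_lt q)
  have he := xor_lt (xor_lt (cE_lt p) (cE_lt q)) (fmul_lt (cA p) (cB q))
  exact ⟨enc_lt ha hb he hi, (enc_coords ha hb he).2.2.2.2.1, (enc_coords ha hb he).2.2.2.2.2⟩

theorem Model.el_mulI (p q k : ℕ) {i : ℕ} (hi : i < 2) :
    X.el (mulI v p q k i) = ((inn X.D X.z p * inn X.D X.z q * X.z ^ k : M) : C) * X.g ^ i := by
  obtain ⟨-, h1, h2⟩ := X.mulI_lt p q k hi
  rw [Model.el, h1, h2, X.inn_mul p q k 0]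

theorem Model.el_mul {p q : ℕ} (hp : p < 512) (hq : q < 512) : X.el (mulN v p q) = X.el p * X.el q := by
  have h8 : ∀ n, n < 512 → Nat.shiftRight n 8 = 0 ∧ Nat.land n 255 = n ∧ n < 256 ∨ Nat.shiftRight n 8 = 1 :=
    fun n hn => by
      rw [shiftRight_div, land_mask]
      norm_num
      omega
  have hgm : ∀ n, X.g * ((inn X.D X.z (Nat.land n 255) : M) : C) = ((inn X.D X.z (act v (Nat.land n 255)) : M) : C) * X.g :=
    fun n => by rw [← X.conj_inn _ (land_255_lt n), inv_mul_cancel_right]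
  unfold mulN
  rcases h8 p hp with ⟨hp0, hp1, -⟩ | hp0
  · rw [hp0, show Nat.beq 0 0 = true from rfl, cond_true]
    rw [X.el_mulI _ _ _ (by rcases h8 q hq with ⟨h, -⟩ | h <;> omega), pow_zero, mul_one, Subgroup.coe_mul,
      Model.el, Model.el, hp0, hp1, pow_zero, mul_one, mul_assoc]
  · rw [hp0, show Nat.beq 1 0 = false from rfl, cond_false]
    rcases h8 q hq with ⟨hq0, hq1, -⟩ | hq0
    · rw [hq0, show Nat.beq 0 0 = true from rfl, cond_true, X.el_mulI _ _ _ (by norm_num), pow_zero, mul_one,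
        Subgroup.coe_mul, Model.el, Model.el, hp0, hq0, hq1, pow_one, pow_zero, mul_one, mul_assoc, mul_assoc]
      conv_rhs => rw [← hq1, hgm, hq1]
    · rw [hq0, show Nat.beq 1 0 = false from rfl, cond_false, X.el_mulI _ _ _ (by norm_num), pow_zero, mul_one,
        Subgroup.coe_mul, Subgroup.coe_mul, SubmonoidClass.coe_pow, Model.el, Model.el, hp0, hq0, pow_one,
        ← X.g_sq]
      symm
      calc ((inn X.D X.z (Nat.land p 255) : M) : C) * X.g * (((inn X.D X.z (Nat.land q 255) : M) : C) * X.g)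
          = ((inn X.D X.z (Nat.land p 255) : M) : C) * (X.g * ((inn X.D X.z (Nat.land q 255) : M) : C)) * X.g := by group
        _ = _ := by rw [hgm]; group

theorem Model.el_two : X.el 2 = ((X.z ^ 2 : M) : C) := by
  rw [Model.el, show Nat.shiftRight 2 8 = 0 from rfl, pow_zero, mul_one, show Nat.land 2 255 = enc 2 0 0 0 0 from rfl,
    X.inn_enc (by norm_num) (by norm_num) (by norm_num)]
  simp [fe, show X.D.x 0 = 1 from X.D.lift_zero _, show X.D.y 0 = 1 from X.D.lift_zero _,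
    show X.D.z 0 = 1 from X.D.lift_zero _]

theorem Model.el_one' : X.el 64 = (X.D.z 1 : C) := by
  rw [Model.el, show Nat.shiftRight 64 8 = 0 from rfl, pow_zero, mul_one,
    show Nat.land 64 255 = enc 0 0 0 1 0 from rfl, X.inn_enc (by norm_num) (by norm_num) (by norm_num)]
  simp [fe, show X.D.x 0 = 1 from X.D.lift_zero _, show X.D.y 0 = 1 from X.D.lift_zero _]

theorem Model.el_zero : X.el 0 = 1 := by
  rw [Model.el, show Nat.shiftRight 0 8 = 0 from rfl, pow_zero, mul_one, show Nat.land 0 255 = enc 0 0 0 0 0 from rfl,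
    X.inn_enc (by norm_num) (by norm_num) (by norm_num)]
  simp [fe, show X.D.x 0 = 1 from X.D.lift_zero _, show X.D.y 0 = 1 from X.D.lift_zero _,
    show X.D.z 0 = 1 from X.D.lift_zero _]

theorem Model.inn_injective {p q : ℕ} (hp : p < 256) (hq : q < 256) (h : inn X.D X.z p = inn X.D X.z q) : p = q := by
  have hd : ∀ a b e : F, X.φ (X.D.x a * X.D.y b * X.D.z (e + a * b)) =
      QuotientGroup.mk (rowE a 0 * colE b 0 * rowE 0 (e + a * b)) := fun a b e => by
    rw [map_mul, map_mul, X.D.map_x, X.D.map_y, X.D.map_z]; rfl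
  have hmat : ∀ a b e : F, ((rowE a 0 * colE b 0 * rowE 0 (e + a * b) : Matrix.SpecialLinearGroup (Fin 3) F) :
      Matrix (Fin 3) (Fin 3) F) = !![1, a, e; 0, 1, b; 0, 0, 1] := fun a b e => by
    ext i j
    fin_cases i <;> fin_cases j <;>
      simp [rowE_coe, colE_coe, Matrix.SpecialLinearGroup.coe_mul, Matrix.mul_apply, Fin.sum_univ_three]
    linear_combination a * b * W.two
  have hm : ∀ a b e : F, (rowE a 0 * colE b 0 * rowE 0 (e + a * b) : Matrix.SpecialLinearGroup (Fin 3) F) ∈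
      unitriSL (n := 3) (F := F) := fun a b e => mul_mem (mul_mem (rowE_mem _ _) (colE_mem _ _)) (rowE_mem _ _)
  have h1 := congrArg X.φ h
  rw [inn, inn, map_mul X.φ, map_mul X.φ (X.z ^ _), map_pow, map_pow, X.z_map, one_pow, one_pow, one_mul, one_mul,
    hd, hd] at h1
  have h2 := congrArg (fun s : Matrix.SpecialLinearGroup (Fin 3) F => (s : Matrix (Fin 3) (Fin 3) F))
    (mk_injOn _ _ (hm _ _ _) (hm _ _ _) 0 h1)
  rw [hmat, hmat] at h2
  have ha := fe_inj W (cA_lt p) (cA_lt q) (by simpa using congrFun (congrFun h2 0) 1)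
  have hb := fe_inj W (cB_lt p) (cB_lt q) (by simpa using congrFun (congrFun h2 1) 2)
  have he := fe_inj W (cE_lt p) (cE_lt q) (by simpa using congrFun (congrFun h2 0) 2)
  rw [inn, inn, ha, hb, he] at h
  have h3 := mul_right_cancel h
  have hz : Nat.land p 3 = Nat.land q 3 := by
    have hl : ∀ n, Nat.land n 3 ∈ Set.Iio (orderOf X.z) := fun n => by
      rw [X.orderOf_z, land_three, Set.mem_Iio]; omega
    exact pow_injOn_Iio_orderOf (hl p) (hl q) h3
  simp only [cA, cB, cE, land_three, shiftRight_div] at ha hb he hz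
  omega

theorem Model.el_injective {p q : ℕ} (hp : p < 512) (hq : q < 512) (h : X.el p = X.el q) : p = q := by
  have h2 : ∀ n, n < 512 → Nat.shiftRight n 8 = 0 ∨ Nat.shiftRight n 8 = 1 := fun n hn => by
    rw [shiftRight_div]; norm_num; omega
  have h0 : Nat.shiftRight p 8 = Nat.shiftRight q 8 := by
    have hno : ∀ m m' : M, (m : C) ≠ (m' : C) * X.g := fun m m' e => X.g_notMem (by
      rw [show X.g = (m' : C)⁻¹ * m by rw [e, inv_mul_cancel_left]]
      exact M.mul_mem (M.inv_mem m'.2) m.2)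
    rcases h2 p hp with e | e <;> rcases h2 q hq with e' | e' <;>
      simp only [Model.el, e, e', pow_zero, pow_one, mul_one] at h ⊢
    · exact absurd h (hno _ _)
    · exact absurd h.symm (hno _ _)
  rw [Model.el, Model.el, h0] at h
  have h4 := X.inn_injective (land_255_lt p) (land_255_lt q) (Subtype.ext (mul_right_cancel h))
  rw [land_mask, land_mask] at h4
  rw [shiftRight_div, shiftRight_div] at h0
  omega

end Cfsg.Agent.L34Fusion
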