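import Cfsg.Agent.Lib.L34Fusion.Fusion
import Cfsg.Agent.Lib.ONGlue.Uniq

/-!
Coordinates with the coefficient map `(1, 1)`: the three pairs of O'Nan type are permuted by the diagonal
automorphism that commutes with the graph-field one.
-/

set_option autoImplicit false
set_option linter.unusedSectionVars false
set_option maxRecDepth 100000

namespace Cfsg.Agent.L34Fusion

open Matrix Cfsg.Agent.L34Mult Cfsg.Agent.L34Univ Cfsg.Agent.AutPSL.Basic Cfsg.Agent.Perm.L34Cover

universe u w

variable {F : Type u} [Field F] [Fintype F] (W : Frame F)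

/-- The diagonal matrix that commutes with the graph-field automorphism. -/
def midW : GL (Fin 3) F :=
  ⟨!![1, 0, 0; 0, W.w + 1, 0; 0, 0, 1], !![1, 0, 0; 0, W.w, 0; 0, 0, 1],
    by
      have h : (W.w + 1) * W.w = 1 := by linear_combination W.sq + W.w * W.two
      ext i j; fin_cases i <;> fin_cases j <;> simp [Matrix.mul_apply, Fin.sum_univ_three, h],
    by
      have h : W.w * (W.w + 1) = 1 := by linear_combination W.sq + W.w * W.two
      ext i j; fin_cases i <;> fin_cases j <;> simp [Matrix.mul_apply, Fin.sum_univ_three, h]⟩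

theorem midW_eq : midW W = Matrix.SpecialLinearGroup.toGL (tor W) * (diagW W * diagW W) := by
  refine Units.ext ?_
  have h1 : W.w * (W.w * W.w) = 1 := by linear_combination (W.w + 1) * W.sq + W.w * W.two
  show _ = (tor W : Matrix (Fin 3) (Fin 3) F) * ((diagW W : Matrix (Fin 3) (Fin 3) F) * (diagW W : Matrix (Fin 3) (Fin 3) F))
  ext i j
  fin_cases i <;> fin_cases j <;> simp [midW, diagW, tor_coe, Matrix.mul_apply, Fin.sum_univ_three, h1]

theorem gf_mid (p : Matrix.ProjectiveSpecialLinearGroup (Fin 3) F) :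
    (autGraph * autFrob W : MulAut (Matrix.ProjectiveSpecialLinearGroup (Fin 3) F)) (gAut (midW W) p) =
      gAut (midW W) ((autGraph * autFrob W : MulAut (Matrix.ProjectiveSpecialLinearGroup (Fin 3) F)) p) := by
  induction p using QuotientGroup.induction_on with | H s => ?_
  rw [MulAut.mul_apply, MulAut.mul_apply, show gAut (midW W) (QuotientGroup.mk s : Matrix.ProjectiveSpecialLinearGroup
    (Fin 3) F) = QuotientGroup.mk (conjSL (midW W) s) from rfl, autFrob_mk, autFrob_mk, autGraph_mk, autGraph_mk,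
    show gAut (midW W) (QuotientGroup.mk (conjSL antidiag (iotaSL (fieldSL (frobRing W) s))) :
      Matrix.ProjectiveSpecialLinearGroup (Fin 3) F) =
      QuotientGroup.mk (conjSL (midW W) (conjSL antidiag (iotaSL (fieldSL (frobRing W) s)))) from rfl]
  congr 1
  refine Subtype.ext ?_
  rw [conjSL_coe, conjSL_coe, conjSL_coe, iotaSL_coe, iotaSL_coe, ← map_inv, ← map_inv, ← map_inv, fieldSL_coe,
    fieldSL_coe, conjSL_coe]
  generalize s⁻¹ = r
  have h1 : (W.w + 1) * (W.w + 1) = W.w := by linear_combination W.sq + (W.w + 1) * W.two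
  have h2 : W.w * W.w = W.w + 1 := W.sq
  have h3 : W.w * W.w * W.w = 1 := by linear_combination (W.w + 1) * W.sq + W.w * W.two
  ext i j
  fin_cases i <;> fin_cases j <;>
    simp [midW, antidiag, Matrix.mul_apply, Matrix.vecMul, dotProduct, Fin.sum_univ_three, frobRing_apply,
      Matrix.transpose_apply, Matrix.map_apply] <;>
    ring_nf <;> grind

theorem repCoef_zero (ρ : MulAut (Matrix.ProjectiveSpecialLinearGroup (Fin 3) F)) : repCoef W ρ 0 = 0 := by
  unfold repCoef
  split_ifs <;> simp [coefFrob, coefGraph]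

variable {W} {C : Type w} [Group C] [Finite C] {M : Subgroup C} [M.Normal]

omit [Finite C] in
set_option maxHeartbeats 1000000 in
/-- The diagonal automorphism permutes the coefficient pairs. -/
theorem exists_twist (X : Coords M W) (hρ : X.ρ = autGraph * autFrob W) (hsq : X.sq = 0) :
    ∃ Y : Coords M W, Y.ρ = autGraph * autFrob W ∧ Y.a = -X.a - X.b ∧ Y.b = X.a ∧ Y.sq = 0 ∧ Y.g = X.g := by
  let δ : MulAut (Matrix.ProjectiveSpecialLinearGroup (Fin 3) F) := gAut (midW W)
  have hs := X.D.surjective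
  have hc := X.D.central
  let φ1 : M →* Matrix.ProjectiveSpecialLinearGroup (Fin 3) F := (autDiag W).toMonoidHom.comp X.φ
  let φ2 : M →* Matrix.ProjectiveSpecialLinearGroup (Fin 3) F := (autDiag W).toMonoidHom.comp φ1
  let φ3 : M →* Matrix.ProjectiveSpecialLinearGroup (Fin 3) F := δ.toMonoidHom.comp X.φ
  have hs1 : Function.Surjective φ1 := (autDiag W).surjective.comp hs
  have hs2 : Function.Surjective φ2 := (autDiag W).surjective.comp hs1
  have hs3 : Function.Surjective φ3 := δ.surjective.comp hs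
  have hc1 : φ1.ker ≤ Subgroup.center M := fun x hx => hc ((autDiag W).map_eq_one_iff.1 hx)
  have hc2 : φ2.ker ≤ Subgroup.center M := fun x hx => hc1 ((autDiag W).map_eq_one_iff.1 hx)
  have hc3 : φ3.ker ≤ Subgroup.center M := fun x hx => hc (δ.map_eq_one_iff.1 hx)
  obtain ⟨D1⟩ : Nonempty (Ctx W φ1) := Ctx.exists_ctx hs1 hc1
  obtain ⟨D2⟩ : Nonempty (Ctx W φ2) := Ctx.exists_ctx hs2 hc2
  obtain ⟨D3⟩ : Nonempty (Ctx W φ3) := Ctx.exists_ctx hs3 hc3
  obtain ⟨k, hk⟩ := hs2 (QuotientGroup.mk (tor W))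
  have hδ : ∀ m, δ (X.φ m) = φ2 (k * m * k⁻¹) := fun m => by
    rw [map_mul, map_mul, map_inv, hk]
    show gAut (midW W) (X.φ m) = _
    rw [midW_eq, map_mul, map_mul, gAut_toGL]
    rfl
  have h1 : ∀ c, X.D.iota c = D1.iota (coefDiag c) := fun c =>
    X.D.diag_iota D1 (MonoidHom.id M) (fun _ => rfl) c
  have h2 : ∀ c, D1.iota c = D2.iota (coefDiag c) := fun c =>
    D1.diag_iota D2 (MonoidHom.id M) (fun _ => rfl) c
  have h3 : ∀ c, D3.iota c = D2.iota c := fun c => by
    have h := Cfsg.Agent.ONGlue.map_iota (s := RingEquiv.refl F) (W := W) (W' := W) rfl D3 D2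
      (MulAut.conj k).toMonoidHom (fun m => by
        show φ2 (k * m * k⁻¹) = ONGlue.psi (RingEquiv.refl F) (φ3 m)
        rw [← hδ]
        show φ3 m = _
        induction φ3 m using QuotientGroup.induction_on with | H x => ?_
        exact congrArg QuotientGroup.mk (Subtype.ext rfl)) c
    rw [← h]
    exact (mul_inv_eq_iff_eq_mul.2 (D3.iota_commute c k).eq).symm
  have hco : ∀ c, coefDiag (coefDiag (coefDiag c)) = c := fun c => Prod.ext (by simp [coefDiag] <;> ring) (by simp [coefDiag] <;> ring)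
  have hD : ∀ c, D3.iota c = X.D.iota (coefDiag c) := fun c => by
    rw [h1, h2, hco, h3]
  have hlin : ∀ c : Coef, X.a * (coefDiag c).1 + X.b * (coefDiag c).2 = (-X.a - X.b) * c.1 + X.a * c.2 := fun c => by
    simp only [coefDiag]; ring
  have hmap : ∀ x : M, φ3 ⟨X.g * x * X.g⁻¹, X.conj_mem x⟩ = (autGraph * autFrob W :
      MulAut (Matrix.ProjectiveSpecialLinearGroup (Fin 3) F)) (φ3 x) := fun x => by
    show δ (X.φ _) = _
    rw [X.map_conj, hρ]
    exact (gf_mid W _).symm
  have hrep : IsRep W (autGraph * autFrob W : MulAut (Matrix.ProjectiveSpecialLinearGroup (Fin 3) F)) := hρ ▸ X.rep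
  obtain ⟨c, hc⟩ := X.unit
  refine ⟨{
    φ := φ3
    D := D3
    g := X.g
    ρ := autGraph * autFrob W
    z := X.z
    a := -X.a - X.b
    b := X.a
    sq := 0
    g_notMem := X.g_notMem
    rep := hrep
    conj_mem := X.conj_mem
    map_conj := hmap
    orderOf_z := X.orderOf_z
    iota_eq := fun d => by rw [hD, X.iota_eq, hlin]
    unit := ⟨coefDiag (coefDiag c), by rw [← hlin, hco, hc]⟩
    conj_iota := fun d => by
      have h := D3.rep_iota hs3 hc3 (MulAut.conjNormal X.g : MulAut M).toMonoidHom hrep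
        (fun m => (congrArg φ3 (Subtype.ext (MulAut.conjNormal_apply X.g m) :
          (MulAut.conjNormal X.g : MulAut M).toMonoidHom m = ⟨X.g * m * X.g⁻¹, X.conj_mem m⟩)).trans (hmap m)) d
      rw [← MulAut.conjNormal_apply X.g (D3.iota d), ← h]
      rfl
    g_sq := by rw [X.g_sq, hsq, D3.iota_zero, X.D.iota_zero]
    sq_fixed := congrArg D3.iota (repCoef_zero W _) }, rfl, rfl, rfl, rfl, rfl⟩

omit [Finite C] [M.Normal] in
/-- The coordinates of O'Nan type, normalised, with the exchange of the two involutions. -/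
theorem exists_on_coords {G : Type w} [Group G] [Finite G] [IsSimpleGroup G] (t : G) (ht : orderOf t = 2)
    (M : Subgroup (Subgroup.centralizer ({t} : Set G))) [M.Normal]
    (hM : M.index = 2) (hout : Subgroup.centralizer (M : Set (Subgroup.centralizer ({t} : Set G))) ≤ M)
    (hZc : IsCyclic (Subgroup.center M)) (hZ4 : Nat.card (Subgroup.center M) = 4) (hperf : commutator M = ⊤)
    (hF : Fintype.card F = 4)
    (e : M ⧸ Subgroup.center M ≃* Matrix.ProjectiveSpecialLinearGroup (Fin 3) F) :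
    ∃ (W : Frame F) (X : Coords M W), X.ρ = autGraph * autFrob W ∧ X.a = 1 ∧ X.b = 1 ∧ X.sq = 0 ∧
      ((X.z * X.z : M) : G) = t ∧
      ∃ h : G, h * t * h⁻¹ = ((X.D.z 1 : M) : G) ∧ h * ((X.D.z 1 : M) : G) * h⁻¹ = t := by
  have : CharP F 2 := charP_of_card_eq_prime_pow (f := 2) (by rw [hF]; norm_num)
  obtain ⟨W, ⟨K⟩⟩ := exists_coords hF M hM hout hZc hZ4 hperf e
  obtain ⟨v, hv, Y, hφ, hD, hg, s, hs, hva, hvb, hvr⟩ := exists_model K
  have hY : Good Y := Good.of_hyps hF hv hM hZ4 e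
  have hne : ∃ a b : M, a * b ≠ b * a := by
    by_contra hc
    push Not at hc
    have htop : Subgroup.center M = ⊤ := eq_top_iff.2 fun x _ => Subgroup.mem_center_iff.2 fun y => hc y x
    have hbot : commutator M = ⊥ := (commutator_eq_bot_iff_center_eq_top (G := M)).2 htop
    rw [hperf] at hbot
    have h1 := congrArg (fun S : Subgroup M => Nat.card S) htop
    have h2 := congrArg (fun S : Subgroup M => Nat.card S) hbot
    simp only [Subgroup.card_top, Subgroup.card_bot, hZ4] at h1 h2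
    omega
  obtain ⟨h, h1, h2⟩ := hY.exists_swap ht hout hne
  have hon := hY.isON_of_swap ht hout h1 h2
  simp only [isON, Bool.and_eq_true, Bool.or_eq_true, beq_iff] at hon
  obtain ⟨⟨hr, hk⟩, hab⟩ := hon
  obtain ⟨φ, D, g, z, gn, oz, zm, ie, un, gs, ci⟩ := Y
  dsimp only at hφ hD hg
  subst hφ hg
  obtain rfl := eq_of_heq hD
  have hval : ∀ c : Coef, z ^ ((v.a : ZMod 4) * c.1 + (v.b : ZMod 4) * c.2).val =
      z ^ (v.a * c.1.val + v.b * c.2.val) := fun c => by
    conv_rhs => rw [← pow_mod_orderOf, oz]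
    congr 1
    rw [← ZMod.val_natCast, Nat.cast_add, Nat.cast_mul, Nat.cast_mul, ZMod.natCast_zmod_val, ZMod.natCast_zmod_val]
  let K' : Coords M W :=
    { φ := K.φ, D := K.D, g := K.g, ρ := autGraph * autFrob W, z := z, a := v.a, b := v.b, sq := 0,
      g_notMem := K.g_notMem, rep := hvr hr ▸ K.rep, conj_mem := K.conj_mem,
      map_conj := fun x => (K.map_conj x).trans (by rw [hvr hr]), orderOf_z := oz,
      iota_eq := fun c => (ie c).trans (hval c).symm, unit := un,
      conj_iota := fun c => by rw [K.conj_iota, hvr hr],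
      g_sq := by
        rw [gs, hk, pow_zero, K.D.iota_zero]; rfl
      sq_fixed := congrArg K.D.iota (repCoef_zero W _) }
  obtain ⟨L, hLρ, hLa, hLb, hLsq⟩ : ∃ L : Coords M W, L.ρ = autGraph * autFrob W ∧ L.a = 1 ∧ L.b = 1 ∧ L.sq = 0 := by
    rcases hab with (⟨ha, hb⟩ | ⟨ha, hb⟩) | ⟨ha, hb⟩
    · exact ⟨K', rfl, by simp [K', ha], by simp [K', hb], rfl⟩
    · obtain ⟨L, h1, h2, h3, h4, -⟩ := exists_twist K' rfl rfl
      exact ⟨L, h1, by simp [h2, K', ha, hb] <;> decide, by simp [h3, K', ha], h4⟩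
    · obtain ⟨L, h1, h2, h3, h4, -⟩ := exists_twist K' rfl rfl
      obtain ⟨L', h1', h2', h3', h4', -⟩ := exists_twist L h1 h4
      exact ⟨L', h1', by simp [h2', h2, h3, K', ha, hb] <;> decide, by simp [h3', h2, K', ha, hb] <;> decide, h4'⟩
  -- the old and the new marked involution are conjugate
  let Y0 : Model v W M := ⟨K.φ, K.D, K.g, z, gn, oz, zm, ie, un, gs, ci⟩
  have ht2 : ((z ^ 2 : M) : G) = t := by
    rw [← Y0.el_two]; exact congrArg Subtype.val (hY.el_two_eq ht hout)
  have hLz : L.z ^ 2 = z ^ 2 := by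
    obtain ⟨j, hj⟩ := hY.ker L.z (by
      have hs := L34Mult.ker_eq_center K.D.surjective K.D.central
      exact (hs _).2 ((L34Mult.ker_eq_center L.D.surjective L.D.central _).1 (by
        obtain ⟨c, hc⟩ := L.unit
        have h := L.iota_eq c
        rw [hc, show (1 : ZMod 4).val = 1 from rfl, pow_one] at h
        rw [← h, L.D.iota_map])))
    have hj' : z ^ j = L.z := hj
    have ho := L.orderOf_z
    rw [← hj', orderOf_pow, oz] at ho
    have hodd : j % 2 = 1 := by
      by_contra hne2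
      have : 2 ∣ Nat.gcd 4 j := Nat.dvd_gcd (by norm_num) (Nat.dvd_of_mod_eq_zero (by omega))
      obtain ⟨d, hd⟩ := this
      have h4 : Nat.gcd 4 j ≤ 4 := Nat.le_of_dvd (by norm_num) (Nat.gcd_dvd_left 4 j)
      interval_cases h : Nat.gcd 4 j <;> omega
    rw [← hj', ← pow_mul, ← pow_mod_orderOf, oz, show j * 2 % 4 = 2 by omega]
  have hz1 : ((L.D.z 1 : M) : G) ≠ 1 := fun h0 => by
    have h0' : L.D.z 1 = 1 := Subtype.ext (Subtype.ext h0)
    have h' := L.D.map_z 1
    rw [h0', map_one] at h'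
    exact one_ne_zero (mk_row_eq_one h'.symm).2
  obtain ⟨m, hm⟩ := hY.exists_conj_z1 (u := L.D.z 1) (L.D.lift_sq _ _)
    (fun h0 => hz1 (by rw [h0]; rfl)) (fun h0 => by
      have h' : L.φ (z ^ 2) = 1 := by
        rw [← hLz, map_pow]
        obtain ⟨c, hc⟩ := L.unit
        have h := L.iota_eq c
        rw [hc, show (1 : ZMod 4).val = 1 from rfl, pow_one] at h
        rw [← h, L.D.iota_map, one_pow]
      rw [← h0, L.D.map_z] at h'
      exact one_ne_zero (mk_row_eq_one h').2)
  have hm' : (((m : M) : G)) * ((L.D.z 1 : M) : G) * (((m : M) : G))⁻¹ = ((K.D.z 1 : M) : G) :=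
    congrArg (fun x : M => ((x : Subgroup.centralizer ({t} : Set G)) : G)) hm
  have hmt : (((m : M) : G)) * t = t * (((m : M) : G)) := Subgroup.mem_centralizer_singleton_iff.1 (SetLike.coe_mem _)
  have h64 : Y0.elG 64 = ((K.D.z 1 : M) : G) := congrArg Subtype.val Y0.el_one'
  change h * t * h⁻¹ = Y0.elG 64 at h1
  change h * Y0.elG 64 * h⁻¹ = t at h2
  rw [h64] at h1 h2
  refine ⟨W, L, hLρ, hLa, hLb, hLsq, ?_, ((m : M) : G)⁻¹ * h * ((m : M) : G), ?_, ?_⟩
  · rw [← pow_two, hLz, ht2]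
  · calc ((m : M) : G)⁻¹ * h * ((m : M) : G) * t * (((m : M) : G)⁻¹ * h * ((m : M) : G))⁻¹
        = ((m : M) : G)⁻¹ * (h * (((m : M) : G) * t * ((m : M) : G)⁻¹) * h⁻¹) * ((m : M) : G) := by group
      _ = ((L.D.z 1 : M) : G) := by rw [hmt, mul_inv_cancel_right, h1, ← hm']; group
  · calc ((m : M) : G)⁻¹ * h * ((m : M) : G) * ((L.D.z 1 : M) : G) * (((m : M) : G)⁻¹ * h * ((m : M) : G))⁻¹
        = ((m : M) : G)⁻¹ * (h * (((m : M) : G) * ((L.D.z 1 : M) : G) * ((m : M) : G)⁻¹) * h⁻¹) * ((m : M) : G) := by group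
      _ = t := by rw [hm', h2, mul_assoc, ← hmt, inv_mul_cancel_left]

end Cfsg.Agent.L34Fusion
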